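import Cfsg.Agent.H873.Tits.Facts
import Cfsg.Agent.Lib.Zsigmondy

/-!
# S3414 [E3]: arithmetic
-/

set_option autoImplicit false

namespace Cfsg.Agent.H437.Tits

open Cfsg.Agent.H873.Tits

universe u v

theorem no_sq {u : ℕ} (hu : u % 4 = 3) : ∀ e g : ℕ, 2 ^ e * u ≠ g ^ 2 := by
  have h4 : ∀ g : ℕ, g ^ 2 % 4 = 0 ∨ g ^ 2 % 4 = 1 := by
    intro g
    have h : g % 4 = 0 ∨ g % 4 = 1 ∨ g % 4 = 2 ∨ g % 4 = 3 := by omega
    rcases h with h | h | h | h <;> simp [Nat.pow_mod, h]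
  intro e
  induction e using Nat.strong_induction_on with
  | _ e ih =>
    intro g h
    have hg := h4 g
    rcases e with _ | _ | e
    · rw [pow_zero, one_mul] at h
      omega
    · rw [zero_add, pow_one] at h
      omega
    · have h1 : 2 ∣ g ^ 2 := by
        rw [← h, pow_succ, mul_assoc]
        exact (Dvd.intro _ rfl : 2 ∣ 2 * u).mul_left _
      obtain ⟨f, rfl⟩ := Nat.prime_two.dvd_of_dvd_pow h1
      refine ih e (by omega) f ?_
      have h2 : 4 * (2 ^ e * u) = 4 * f ^ 2 := by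
        calc 4 * (2 ^ e * u) = 2 ^ (e + 1 + 1) * u := by ring
          _ = (2 * f) ^ 2 := h
          _ = 4 * f ^ 2 := by ring
      exact Nat.eq_of_mul_eq_mul_left (by norm_num) h2

/-- `s = 2 ^ (k + 1) (2 ^ (k - 1) - 1)` -/
theorem s_eq {r₀ k s : ℕ} (hk : 3 ≤ k) (hr : r₀ + 1 = 2 ^ k) (hs : s + 1 = r₀ ^ 2) :
    s = 2 ^ (k + 1) * (2 ^ (k - 1) - 1) := by
  obtain ⟨c, rfl⟩ : ∃ c, k = c + 1 := ⟨k - 1, by omega⟩
  rw [Nat.add_sub_cancel]
  obtain ⟨d, hd⟩ : ∃ d, 2 ^ c = d + 1 := ⟨2 ^ c - 1, by have := Nat.one_le_two_pow (n := c); omega⟩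
  have h1 : r₀ = 2 * d + 1 := by
    rw [pow_succ, hd] at hr
    omega
  rw [h1] at hs
  have h2 : (2 * d + 1) ^ 2 = 4 * (d * (d + 1)) + 1 := by ring
  have h3 : 2 ^ (c + 1 + 1) = 4 * 2 ^ c := by ring
  rw [h3, hd, Nat.add_sub_cancel]
  have h4 : 4 * (d + 1) * d = 4 * (d * (d + 1)) := by ring
  rw [h4]
  omega

theorem u_mod {k : ℕ} (hk : 3 ≤ k) : (2 ^ (k - 1) - 1) % 4 = 3 := by
  obtain ⟨c, rfl⟩ : ∃ c, k = c + 3 := ⟨k - 3, by omega⟩
  have h1 : 2 ^ (c + 3 - 1) = 4 * 2 ^ c := by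
    rw [show c + 3 - 1 = c + 2 by omega]; ring
  have := Nat.one_le_two_pow (n := c)
  omega

/-- the numerical conditions for `s = q b`, `t = q (!b)` -/
theorem num_all {G : Type u} [Group G] {V : Type v} [MulAction G V] {P : Pol G V} (N : Num P) {b : Bool} {s t : ℕ}
    (hs : P.q b = s) (ht : P.q (!b) = t) :
    (P.n = 4 → s ≤ t ^ 2 ∧ t ≤ s ^ 2 ∧ (s + t) ∣ 2 * s * t * (1 + s) * (1 + t)) ∧
    (P.n = 6 → s ≤ t ^ 3 ∧ t ≤ s ^ 3 ∧ ∃ g, s * t = g ^ 2) ∧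
    (P.n = 8 → s ≤ t ^ 2 ∧ t ≤ s ^ 2 ∧ ∃ g, 2 * s * t = g ^ 2) := by
  have e1 : P.q true * P.q false = s * t := by
    cases b
    · rw [Bool.not_false] at ht; rw [hs, ht, mul_comm]
    · rw [Bool.not_true] at ht; rw [hs, ht]
  have e2 : P.q true + P.q false = s + t := by
    cases b
    · rw [Bool.not_false] at ht; rw [hs, ht, add_comm]
    · rw [Bool.not_true] at ht; rw [hs, ht]
  have e3 : (1 + P.q true) * (1 + P.q false) = (1 + s) * (1 + t) := by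
    cases b
    · rw [Bool.not_false] at ht; rw [hs, ht, mul_comm]
    · rw [Bool.not_true] at ht; rw [hs, ht]
  refine ⟨fun h => ⟨?_, ?_, ?_⟩, fun h => ⟨?_, ?_, ?_⟩, fun h => ⟨?_, ?_, ?_⟩⟩
  · have := N.hig48 (Or.inl h) b; rwa [hs, ht] at this
  · have := N.hig48 (Or.inl h) (!b); rwa [Bool.not_not, hs, ht] at this
  · have h3 := N.fh4 h
    have e4 : 2 * P.q true * P.q false * (1 + P.q true) * (1 + P.q false) = 2 * s * t * (1 + s) * (1 + t) := by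
      calc 2 * P.q true * P.q false * (1 + P.q true) * (1 + P.q false)
          = 2 * (P.q true * P.q false) * ((1 + P.q true) * (1 + P.q false)) := by ring
        _ = 2 * (s * t) * ((1 + s) * (1 + t)) := by rw [e1, e3]
        _ = _ := by ring
    rwa [e2, e4] at h3
  · have := N.hig6 h b; rwa [hs, ht] at this
  · have := N.hig6 h (!b); rwa [Bool.not_not, hs, ht] at this
  · obtain ⟨g, hg, -⟩ := N.fh6 h
    exact ⟨g, by rw [← e1, hg]⟩
  · have := N.hig48 (Or.inr h) b; rwa [hs, ht] at this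
  · have := N.hig48 (Or.inr h) (!b); rwa [Bool.not_not, hs, ht] at this
  · obtain ⟨g, hg, -⟩ := N.fh8 h
    exact ⟨g, by rw [mul_assoc, ← e1, ← mul_assoc, hg]⟩

/-- `t = 2 ^ j`: then `n = 4` -/
theorem n_eq_four {G : Type u} [Group G] {V : Type v} [MulAction G V] {P : Pol G V} (N : Num P) {b : Bool} {s j r₀ k : ℕ}
    (hs : P.q b = s) (ht : P.q (!b) = 2 ^ j) (hk : 3 ≤ k) (hr : r₀ + 1 = 2 ^ k) (hs' : s + 1 = r₀ ^ 2) : P.n = 4 := by
  obtain ⟨-, h6, h8⟩ := num_all N hs ht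
  rcases P.hn with h | h | h
  · exact h
  · exfalso
    obtain ⟨-, -, g, hg⟩ := h6 h
    refine no_sq (u_mod hk) (k + 1 + j) g ?_
    rw [← hg, s_eq hk hr hs']
    ring
  · exfalso
    obtain ⟨-, -, g, hg⟩ := h8 h
    refine no_sq (u_mod hk) (k + 2 + j) g ?_
    rw [← hg, s_eq hk hr hs']
    ring

theorem three_dvd {r₀ k s : ℕ} (hr₀ : r₀.Prime) (h7 : 7 ≤ r₀) (hr : r₀ + 1 = 2 ^ k) (hs : s + 1 = r₀ ^ 2) : 3 ∣ s := by
  have h3 : ¬ 3 ∣ r₀ := by
    intro h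
    have := (Nat.prime_dvd_prime_iff_eq Nat.prime_three hr₀).1 h
    omega
  have h5 : r₀ % 3 = 1 ∨ r₀ % 3 = 2 := by omega
  have h4 : r₀ ^ 2 % 3 = 1 := by
    rcases h5 with h | h <;> simp [Nat.pow_mod, h]
  omega

/-- `2 ^ c + 1` is a proper prime power only for `c = 3` -/
theorem two_pow_add_one {r c d : ℕ} (hr : r.Prime) (hc : 1 ≤ c) (h : 2 ^ c + 1 = r ^ d) : d = 1 ∨ 2 ^ c = 8 := by
  have hr2 : r ≠ 2 := by
    rintro rfl
    have h1 : 2 ∣ 2 ^ c := dvd_pow_self 2 (by omega)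
    rcases Nat.eq_zero_or_pos d with h0 | h0
    · rw [h0, pow_zero] at h
      have := Nat.one_le_two_pow (n := c)
      omega
    · have h2 : 2 ∣ 2 ^ d := dvd_pow_self 2 (by omega)
      omega
  by_cases hd1 : d = 1
  · exact Or.inl hd1
  right
  have hd0 : d ≠ 0 := by
    rintro rfl
    rw [pow_zero] at h
    have := Nat.one_le_two_pow (n := c)
    omega
  have hr3 : 3 ≤ r := by have := hr.two_le; omega
  by_cases h2 : d = 2 ∧ ∃ k, r + 1 = 2 ^ k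
  · obtain ⟨rfl, k, hk⟩ := h2
    obtain ⟨m, rfl⟩ : ∃ m, r = m + 1 := ⟨r - 1, by omega⟩
    have h3 : 2 ^ c = m * (m + 1 + 1) := by
      have : (m + 1) ^ 2 = m * (m + 1 + 1) + 1 := by ring
      omega
    obtain ⟨e, -, he⟩ := (Nat.dvd_prime_pow Nat.prime_two).1 (show m ∣ 2 ^ c from h3 ▸ Dvd.intro _ rfl)
    -- `2 ^ k = 2 ^ e + 2`
    have h4 : 2 ^ k = 2 ^ e + 2 := by omega
    have he1 : e = 1 := by
      rcases e with _ | _ | e
      · rw [pow_zero] at he; omega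
      · rfl
      · exfalso
        have h5 : 4 ∣ 2 ^ (e + 1 + 1) := ⟨2 ^ e, by ring⟩
        have h6 : 3 ≤ k := by
          by_contra hcon
          have h8 : 2 ^ k ≤ 2 ^ 2 := Nat.pow_le_pow_right (by norm_num) (by omega)
          have h7 : 2 ^ 2 ≤ 2 ^ (e + 1 + 1) := Nat.pow_le_pow_right (by norm_num) (by omega)
          omega
        have h7 : 2 ^ 2 ∣ 2 ^ k := pow_dvd_pow 2 (by omega)
        omega
    subst he1
    rw [h3, he]
    norm_num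
  · exfalso
    obtain ⟨l, hl, h3, h4, -⟩ := Cfsg.Agent.Lib.Zsigmondy.exists_primitive hr.two_le
      (Nat.two_le_iff d |>.2 ⟨hd0, hd1⟩) (fun h3 h4 => h2 ⟨h3, h4⟩) (fun h3 => hr2 h3.1)
    have h5 : r ^ d - 1 = 2 ^ c := by rw [← h, Nat.add_sub_cancel]
    have h8 : l ∣ r ^ d - 1 := (h3 d).2 dvd_rfl
    rw [h5] at h8
    have h6 := (Nat.prime_dvd_prime_iff_eq hl Nat.prime_two).1 (hl.dvd_of_dvd_pow h8)
    subst h6
    have h9 := hr.eq_two_or_odd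
    have h7 := (h3 1).1 (by rw [pow_one]; omega)
    exact hd1 (Nat.dvd_one.1 h7)

end Cfsg.Agent.H437.Tits
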