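import Cfsg.Agent.H437.Tits.Idx

/-!
# S3414 [E3]: the index of the socle, for permutation groups
-/

set_option autoImplicit false
open Cfsg

namespace Cfsg.Agent.H437.Tits

open Subgroup MulAction Cfsg.Agent.H384.TwoTrans Cfsg.Agent.H873.Tits

universe v

/-- the list of the 2-transitive groups -/
def K2 : Prop := ∀ {G Ω : Type v} [Group G] [MulAction G Ω] {T : Subgroup G}, AS G Ω T → Known2 ↥T (Nat.card Ω)

theorem relIndex_dvd (hK : K2.{v}) {Ω : Type v} [Finite Ω] {L : Subgroup (Equiv.Perm Ω)} (h2 : TwoTr L) (hAff : ¬ Aff L)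
    {j : ℕ} (hj : 4 ≤ j) (hc : Nat.card Ω = 2 ^ j + 1) {X : Subgroup (Equiv.Perm Ω)} (hX : X ≤ L)
    (hXn : (X.subgroupOf L).Normal) (hX1 : X ≠ ⊥)
    (hmin : ∀ N : Subgroup (Equiv.Perm Ω), N ≤ L → (N.subgroupOf L).Normal → N ≠ ⊥ → X ≤ N) :
    X.relIndex L ∣ 2 * j := by
  have h16 : 2 ^ 4 ≤ 2 ^ j := Nat.pow_le_pow_right (by norm_num) hj
  have h2' : IsMultiplyPretransitive L Ω 2 := by
    rw [is_two_pretransitive_iff]
    intro a b c d hab hcd
    obtain ⟨g, hg, h1, h2⟩ := h2 a b c d hab hcd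
    exact ⟨⟨g, hg⟩, h1, h2⟩
  rcases reduction h2' (by omega) with ⟨N, hN, -, hNc, -, htr, hreg⟩ | ⟨T, A⟩
  · exfalso
    apply hAff
    have hinj := L.subtype_injective
    let e : N ≃* N.map L.subtype := N.equivMapOfInjective _ hinj
    refine ⟨N.map L.subtype, ?_, ?_, ?_, ⟨?_⟩, ?_⟩
    · rintro _ ⟨x, -, rfl⟩
      exact x.2
    · have h1 : (N.map L.subtype).subgroupOf L = N := by
        ext x
        constructor
        · rintro ⟨y, hy, hyx⟩
          have : y = x := hinj hyx
          rwa [← this]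
        · intro hx
          exact ⟨x, hx, rfl⟩
      rw [h1]
      exact hN
    · exact ⟨⟨fun x y => e.symm.injective (by rw [map_mul, map_mul, hNc.is_comm.comm])⟩⟩
    · intro x y
      obtain ⟨n, hn, h⟩ := htr x y
      exact ⟨⟨n, ⟨n, hn, rfl⟩⟩, h⟩
    · intro x
      rw [eq_bot_iff]
      rintro ⟨_, n, hn, rfl⟩ hnx
      rw [mem_bot]
      have h1 := hreg x n hn hnx
      apply Subtype.ext
      change (n : Equiv.Perm Ω) = 1
      rw [h1]
      rfl
  · have hTn := A.normal
    have hTs := A.simple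
    have hinj := L.subtype_injective
    have h1 : (T.map L.subtype).subgroupOf L = T := by
      ext x
      constructor
      · rintro ⟨y, hy, hyx⟩
        have : y = x := hinj hyx
        rwa [← this]
      · intro hx
        exact ⟨x, hx, rfl⟩
    have hT1 : T.map L.subtype ≠ ⊥ := by
      intro h
      have h3 : T = ⊥ := by
        rw [← h1, h]
        exact bot_subgroupOf L
      obtain ⟨x, y, hxy⟩ := hTs.exists_pair_ne
      apply hxy
      have hx : (x : L) = 1 := mem_bot.1 (h3.le x.2)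
      have hy : (y : L) = 1 := mem_bot.1 (h3.le y.2)
      exact Subtype.ext (hx.trans hy.symm)
    have h3 : X ≤ T.map L.subtype := hmin _ (by
      rintro _ ⟨x, -, rfl⟩
      exact x.2) (by rw [h1]; exact hTn) hT1
    have h4 : X.subgroupOf L ≤ T := by
      rw [← h1]
      exact Subgroup.comap_mono h3
    have h5 : X.subgroupOf L = T := by
      have h6 : ((X.subgroupOf L).subgroupOf T).Normal := hXn.comap T.subtype
      rcases hTs.eq_bot_or_eq_top_of_normal _ h6 with h | h
      · exfalso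
        rw [subgroupOf_eq_bot, disjoint_iff, inf_eq_left.2 h4] at h
        rw [subgroupOf_eq_bot, disjoint_iff, inf_eq_left.2 hX] at h
        exact hX1 h
      · exact le_antisymm h4 (subgroupOf_eq_top.1 h)
    change (X.subgroupOf L).index ∣ _
    rw [h5]
    exact index_dvd A (hK A) hj hc

end Cfsg.Agent.H437.Tits
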