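import Cfsg.Agent.H437.Tits.Cnt
import Cfsg.Agent.H437.Tits.IdxP
import Cfsg.Agent.H437.Tits.Arith

/-!
# S3414 [E3]: `r₀ ≥ 31` does not occur
-/

set_option autoImplicit false

namespace Cfsg.Agent.H437.Tits

open Subgroup Module Cfsg.Agent.H873.Tits Cfsg.Agent.H482.Tab

universe u v

theorem four_mul_lt {k : ℕ} (hk : 6 ≤ k) : 4 * k + 1 ≤ 2 ^ (k - 1) - 1 := by
  obtain ⟨c, rfl⟩ : ∃ c, k = c + 6 := ⟨k - 6, by omega⟩
  rw [show c + 6 - 1 = c + 5 by omega]
  clear hk
  induction c with
  | zero => norm_num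
  | succ c ih =>
    have : 2 ^ (c + 1 + 5) = 2 * 2 ^ (c + 5) := by ring
    omega

/-- affine, degree `2 ^ c + 1`: the two point stabilizer is trivial or the degree is `9` -/
theorem aff_two_pow {Ω : Type v} [Finite Ω] {L : Subgroup (Equiv.Perm Ω)} (h2 : TwoTr L) (hAff : Aff L) {a b : Ω}
    (hab : a ≠ b) {c : ℕ} (hc : 1 ≤ c) (hn : Nat.card Ω = 2 ^ c + 1) :
    Nat.card ↥(Stb L a ⊓ Stb L b) = 1 ∨ 2 ^ c = 8 := by
  obtain ⟨r, hr, V, i1, i2, i3, φ, w₁, β, H, h0, hb, hβ⟩ := exists_TL h2 hAff hab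
  have hV : Nat.card V = r ^ finrank (ZMod r) V := by
    rw [Module.natCard_eq_pow_finrank (K := ZMod r), Nat.card_zmod]
  rw [Nat.card_congr β, hn] at hV
  rcases two_pow_add_one (Fact.out : r.Prime) hc hV with h | h
  · left
    rw [← card_stab_eq hb hβ]
    have := H.card_stab_dvd (d := 0) (by rw [h])
    simpa using this
  · exact Or.inr h

/-- the `3`-part of the order of the two point stabilizer, degree `r₁ ^ 2` -/
theorem fact_three {r₁ t T : ℕ} (hr₁ : r₁.Prime) (h7 : 7 ≤ r₁) (ht : t + 1 = r₁ ^ 2) (hT : T ∣ r₁ ^ 2 - r₁) :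
    T.factorization 3 ≤ t.factorization 3 := by
  have h1 : r₁ ^ 2 - r₁ = r₁ * (r₁ - 1) := by rw [pow_two, Nat.mul_sub_one]
  have h2 : t = (r₁ - 1) * (r₁ + 1) := by
    obtain ⟨m, rfl⟩ : ∃ m, r₁ = m + 1 := ⟨r₁ - 1, by omega⟩
    have : (m + 1) ^ 2 = m * (m + 1 + 1) + 1 := by ring
    rw [Nat.add_sub_cancel]
    omega
  have h3 : r₁.factorization 3 = 0 := by
    apply Nat.factorization_eq_zero_of_not_dvd
    intro h
    have := (Nat.prime_dvd_prime_iff_eq Nat.prime_three hr₁).1 h
    omega
  have h4 : T.factorization 3 ≤ (r₁ ^ 2 - r₁).factorization 3 :=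
    (Nat.factorization_le_iff_dvd (by
      rintro rfl
      rw [zero_dvd_iff, h1] at hT
      have := mul_eq_zero.1 hT
      omega) (by
      rw [h1]
      exact mul_ne_zero (by omega) (by omega))).2 hT 3
  rw [h1, Nat.factorization_mul (by omega) (by omega), Finsupp.add_apply, h3, zero_add] at h4
  rw [h2, Nat.factorization_mul (by omega) (by omega), Finsupp.add_apply]
  omega

theorem big (hH : HerTwo.{v}) (hK2 : K2.{v}) (hStar : StStar.{u, v}) (hKA : StKeyAff.{u, v}) (hKN : StKeyNonaff.{u, v})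
    (hK0 : StKeyEasy.{u, v}) (hZ : StZstar.{u, v}) (h1c : StTab1c.{v}) (h2 : StTab2.{v}) (hE4 : StE4.{u, v})
    {G : Type u} [Group G] [Finite G] {V : Type v} [Finite V] [MulAction G V] {P : Pol G V} (F : Facts P) (N : Num P)
    (hO : NoOdd G) (hA : CaseA P 2) {x y : V} (hxy : P.adj x y) (hAff : Aff (P.L x)) {r₀ k : ℕ} (hr₀ : r₀.Prime)
    (hk : 5 ≤ k) (hrk : r₀ + 1 = 2 ^ k) (hs : P.q (P.tp x) + 1 = r₀ ^ 2)
    (hy : Aff (P.L y) ∨ ∃ k, P.q (P.tp y) = 2 ^ k) : False := by
  have h32 : 2 ^ 5 ≤ 2 ^ k := Nat.pow_le_pow_right (by norm_num) hk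
  have h31 : 31 ≤ r₀ := by omega
  have hs960 : 960 ≤ P.q (P.tp x) := by
    have : 31 ^ 2 ≤ r₀ ^ 2 := Nat.pow_le_pow_left h31 2
    omega
  obtain ⟨z, hxz, hyz⟩ := exists_other (P := P) (x := x) (y := y)
  obtain ⟨w, hyw, hxw⟩ := exists_other (P := P) (x := y) (y := x)
  have hyx : P.adj y x := P.symm hxy
  have htp : P.tp y = !P.tp x := P.tp_adj hxy
  have h3s : 3 ∣ P.q (P.tp x) := three_dvd hr₀ (by omega) hrk hs
  have hs0 : P.q (P.tp x) ≠ 0 := by omega
  have hs3 : 1 ≤ (P.q (P.tp x)).factorization 3 := (Nat.prime_three.dvd_iff_one_le_factorization hs0).1 h3s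
  have hT3 : 3 ≤ P.T2 x y z := by
    have h1 := key_all hKA hKN hK0 hZ h2 hE4 F N hO hA hxy hxz hyz hy Nat.prime_three (by norm_num) (Or.inl (by norm_num))
    have h4 : 3 ∣ P.T2 x y z := (Nat.prime_three.dvd_iff_one_le_factorization T2_ne_zero).2 (hs3.trans h1)
    exact Nat.le_of_dvd (Nat.pos_of_ne_zero T2_ne_zero) h4
  have hOrb : Orb2 P x y := orb2_of hH F hxy hxz hyz hAff hr₀ hk hrk hs hT3
  obtain ⟨y', hy'⟩ := F.exists_opp y
  have hm : 1 ≤ P.n / 2 - 1 := by have := P.hn; omega
  have hidx : ∀ {r : ℕ}, r.Prime → r ≠ 2 →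
      (P.q (P.tp y)).factorization r + (P.q (P.tp x)).factorization r ≤ (P.idx y y').factorization r := by
    intro r hr hr2
    exact (Nat.le_mul_of_pos_left _ hm).trans (idx_ge hStar F hA hxy hOrb hy' hr hr2)
  have hT : ∀ r, (P.idx y y').factorization r ≤ (P.T2 y x w).factorization r :=
    factorization_idx_le F hy' hyx hyw hxw
  have hne : (⟨x, hyx⟩ : {w : V // P.adj y w}) ≠ ⟨w, hyw⟩ := fun h => hxw (congrArg Subtype.val h)
  have hcard : Nat.card {w : V // P.adj y w} = P.q (P.tp y) + 1 := P.card_nb y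
  have h3T : 1 ≤ (P.T2 y x w).factorization 3 := by
    have h5 := hidx Nat.prime_three (by norm_num)
    have h6 := hT 3
    omega
  have hNum := num_all N (b := P.tp x) rfl rfl
  rw [← htp] at hNum
  obtain ⟨Q, hQ⟩ := lq F hA hyx hyw hxw
  by_cases hay : Aff (P.L y)
  · rcases h1c (P.L y) _ _ _ _ _ hQ hay (fun r hr hr2 => by
      rw [← T2_eq]
      have h5 := hidx hr hr2
      have h6 := hT r
      omega) with ⟨c, hc⟩ | ⟨-, r₁, k₁, hr₁, h7, hk₁, ht⟩
    · have hc1 : 1 ≤ c := by
        rcases Nat.eq_zero_or_pos c with h | h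
        · rw [h, pow_zero] at hc
          have := P.two_le (P.tp y)
          omega
        · exact h
      rcases aff_two_pow (twoTr_L F y) hay hne hc1 (by rw [hcard, hc]) with h | h
      · rw [T2_eq hyx hyw, h] at h3T
        simp at h3T
      · rw [hc, h] at hNum
        obtain ⟨h4, h6, h8⟩ := hNum
        rcases P.hn with hn | hn | hn
        · have := (h4 hn).1
          norm_num at this
          omega
        · have := (h6 hn).1
          norm_num at this
          omega
        · have := (h8 hn).1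
          norm_num at this
          omega
    · have h5 := card_two_dvd (twoTr_L F y) hay hne hr₁ (by rw [hcard, ht])
      rw [← T2_eq] at h5
      have h6 := fact_three hr₁ h7 ht h5
      have h8 := hidx Nat.prime_three (by norm_num)
      have h9 := hT 3
      omega
  · obtain ⟨j, hj⟩ := hy.resolve_left hay
    have hn4 : P.n = 4 := n_eq_four N (b := P.tp x) rfl (by rw [← htp, hj]) (by omega) hrk hs
    obtain ⟨h5, h6, h7⟩ := hNum.1 hn4
    have hj5 : 5 ≤ j := by
      by_contra hcon
      have h8 : 2 ^ j ≤ 2 ^ 4 := Nat.pow_le_pow_right (by norm_num) (by omega)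
      rw [hj] at h5
      have h9 : (2 ^ j) ^ 2 ≤ (2 ^ 4) ^ 2 := Nat.pow_le_pow_left h8 2
      norm_num at h9
      omega
    have hi3 : 3 ∣ (P.L' y y').relIndex (P.L y) := by
      have h8 := hidx Nat.prime_three (by norm_num)
      by_contra hcon
      have h9 : (P.idx y y').factorization 3 = 0 := Nat.factorization_eq_zero_of_not_dvd hcon
      omega
    rcases h2 (P.L y) (P.L' y y') _ _ _ _ _ hQ (twoTr_L' F hy') L'_le_L ⟨j, hj⟩ hay Nat.prime_three (by norm_num) hi3 with
      ⟨X, hX1, hX2, hX3, hX4⟩ | ⟨e1, -⟩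
    · have hXbot : X ≠ ⊥ := by
        rintro rfl
        obtain ⟨τ, hτ, h8, -⟩ := hX3 _ _ hne
        rw [mem_bot] at hτ
        rw [hτ] at h8
        exact hne h8
      have h8 : X.relIndex (P.L y) ∣ 2 * j := relIndex_dvd hK2 (twoTr_L F y) hay (by omega) (by rw [hcard, hj])
        (hX1.trans L'_le_L) hX2 hXbot hX4
      have h9 : P.idx y y' ∣ 2 * j := (Subgroup.relIndex_dvd_of_le_left (P.L y) hX1).trans h8
      have hj0 : 2 * j ≠ 0 := by omega
      -- `u ∣ 2 j`
      have hsu := s_eq (by omega) hrk hs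
      have humod := u_mod (k := k) (by omega)
      set u := 2 ^ (k - 1) - 1 with hu
      have hu0 : u ≠ 0 := by omega
      have hudvd : u ∣ 2 * j := by
        rw [← Nat.factorization_le_iff_dvd hu0 hj0]
        intro r
        by_cases hr : r.Prime
        · by_cases hr2 : r = 2
          · subst hr2
            rw [Nat.factorization_eq_zero_of_not_dvd (by omega)]
            exact Nat.zero_le _
          · have h10 : u.factorization r ≤ (P.q (P.tp x)).factorization r :=
              (Nat.factorization_le_iff_dvd hu0 hs0).2 (hsu ▸ Dvd.intro_left _ rfl) r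
            have h11 := hidx hr hr2
            have h12 : (P.idx y y').factorization r ≤ (2 * j).factorization r :=
              (Nat.factorization_le_iff_dvd (fun h => by
                rw [h, zero_dvd_iff] at h9
                exact hj0 h9) hj0).2 h9 r
            omega
        · rw [Nat.factorization_eq_zero_of_not_prime u hr]
          exact Nat.zero_le _
      have hcop : Nat.Coprime u 2 := by
        rw [Nat.coprime_comm, Nat.prime_two.coprime_iff_not_dvd]
        omega
      have huj : u ∣ j := hcop.dvd_of_dvd_mul_left hudvd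
      have hule : u ≤ j := Nat.le_of_dvd (by omega) huj
      -- `j < 4 k`
      have hj4k : j < 4 * k := by
        by_contra hcon
        push Not at hcon
        have h10 : 2 ^ (4 * k) ≤ 2 ^ j := Nat.pow_le_pow_right (by norm_num) hcon
        have h11 : P.q (P.tp x) < 2 ^ (2 * k) := by
          have h12 : r₀ ^ 2 ≤ (2 ^ k) ^ 2 := Nat.pow_le_pow_left (by omega) 2
          rw [mul_comm 2 k, pow_mul]
          omega
        have h12 : P.q (P.tp x) ^ 2 < (2 ^ (2 * k)) ^ 2 := Nat.pow_lt_pow_left h11 (by norm_num)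
        have h13 : (2 ^ (2 * k)) ^ 2 = 2 ^ (4 * k) := by rw [← pow_mul]; congr 1; ring
        rw [hj] at h6
        omega
      have hk5 : k = 5 := by
        by_contra hcon
        have := four_mul_lt (k := k) (by omega)
        omega
      subst hk5
      have hr31 : r₀ = 31 := by omega
      subst hr31
      have hs' : P.q (P.tp x) = 960 := by omega
      have hu15 : u = 15 := hu.trans (by norm_num)
      rw [hu15] at huj
      obtain ⟨c, hc⟩ := huj
      have hj15 : j = 15 := by omega
      subst hj15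
      rw [hj, hs'] at h7
      norm_num at h7
    · rw [e1] at h5
      norm_num at h5
      omega

end Cfsg.Agent.H437.Tits
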