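import Cfsg.Agent.H437.Tits.Lin
import Cfsg.Agent.H873.Tits.AsmA
import Cfsg.Agent.H263.TW.Pol

/-!
# S3414 [E3]: the index `i_y` when the normal `2`-subgroups of `K y` have orbits of length two on the neighbours of `x`
-/

set_option autoImplicit false

namespace Cfsg.Agent.H437.Tits

open Subgroup Cfsg.Agent.H873.Tits Cfsg.Agent.H263.TW

universe u v

section

variable {G : Type u} [Group G] [Finite G] {V : Type v} [Finite V] [MulAction G V] {P : Pol G V}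

/-- the normal `2`-subgroups of `S y` in `K y` have orbits of length at most two on the neighbours of `x` -/
def Orb2 (P : Pol G V) (x y : V) : Prop := ∀ Q : Subgroup G, Q ≤ P.K y → (Q.subgroupOf (P.S y)).Normal → IsPGroup 2 ↥Q →
  ∀ z, P.adj x z → ∃ d, ∀ g ∈ Q, g • z = z ∨ g • z = d

theorem pgroup_KS (hStar : StStar.{u, v}) (F : Facts P) (hA : CaseA P 2) {x y w : V} (hxy : P.adj x y)
    (h2 : Orb2 P x y) (hw : P.adj x w) (hwy : w ≠ y) : IsPGroup 2 ↥(P.K y ⊓ P.S w) := by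
  have hSK := Cfsg.Agent.H263.TW.S_le_normalizer_K P y
  set Q := cp 2 (P.K y) with hQdef
  have hQ : Q ≤ P.K y := cp_le _ _
  have hQn : P.S y ≤ normalizer (Q : Set G) := hSK.trans (normalizer_le_cp 2 (P.K y))
  have hQp : IsPGroup 2 Q := cp_pGroup _ _
  have hQn' : (Q.subgroupOf (P.S y)).Normal := by
    constructor
    intro n hn g
    exact Cfsg.Agent.H263.TW.conj_mem (K := Q) (hQn g.2) hn
  have hmax : ∀ Q' : Subgroup G, Q' ≤ P.K y → (Q'.subgroupOf (P.S y)).Normal → IsPGroup 2 ↥Q' → Q' ≤ Q := by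
    intro Q' h1 h2 h3
    refine le_cp h1 h3 ?_
    refine (P.K_le_S y).trans ?_
    intro g hg
    have h4 : ∀ g ∈ P.S y, ∀ a ∈ Q', g * a * g⁻¹ ∈ Q' := by
      intro g hg a ha
      exact h2.conj_mem ⟨a, P.K_le_S y (h1 ha)⟩ ha ⟨g, hg⟩
    rw [mem_normalizer_iff]
    intro a
    refine ⟨fun ha => h4 g hg a ha, fun ha => ?_⟩
    have h5 := h4 g⁻¹ (inv_mem hg) _ ha
    have h6 : g⁻¹ * (g * a * g⁻¹) * g⁻¹⁻¹ = a := by group
    rwa [h6] at h5
  have hE := hA.pgroup hxy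
  have key : ∀ g ∈ P.K y ⊓ P.S w, g ^ 2 ∈ P.K x ⊓ P.K y := by
    rintro g ⟨hg, hgw⟩
    have hgx : g • x = x := hg.2 x (P.symm hxy)
    have hgy : g • y = y := hg.1
    refine ⟨⟨by rw [pow_two, mul_smul, hgx, hgx], fun z hz => ?_⟩, pow_mem hg 2⟩
    by_cases hzy : z = y
    · rw [hzy, pow_two, mul_smul, hgy, hgy]
    obtain ⟨b, hb, hgb⟩ := hStar P F hA hxy hw hwy hz hzy Q hQ hQn' hQp hmax g hg
      ⟨1, one_mem _, by rw [one_smul]; exact hgw⟩
    obtain ⟨d, hd⟩ := h2 Q hQ hQn' hQp z hz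
    rw [pow_two, mul_smul]
    rcases hd b hb with h | h
    · rw [hgb, h, hgb, h]
    · have h3 : g * b * g⁻¹ * b ∈ Q := mul_mem (Cfsg.Agent.H263.TW.conj_mem (hQn (P.K_le_S y hg)) hb) hb
      have h4 : (g * b * g⁻¹ * b) • z = g • g • z := by
        rw [mul_smul, mul_smul, mul_smul, ← hgb, inv_smul_smul, ← hgb]
      rw [← h4]
      rcases hd _ h3 with h5 | h5
      · exact h5
      · rw [h5]
        rw [h4] at h5
        have h6 : g • z = d := hgb.trans h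
        rw [h6] at h5
        have h7 : g • d = g • z := h5.trans h6.symm
        exact smul_left_cancel g h7
  intro g
  obtain ⟨j, hj⟩ := hE ⟨(g : G) ^ 2, key g g.2⟩
  refine ⟨j + 1, ?_⟩
  have h1 : ((g : G) ^ 2) ^ 2 ^ j = 1 := congrArg Subtype.val hj
  apply Subtype.ext
  change (g : G) ^ 2 ^ (j + 1) = 1
  rw [pow_succ, mul_comm, pow_mul]
  exact h1

theorem card_K_dvd (hStar : StStar.{u, v}) (F : Facts P) (hA : CaseA P 2) {x y : V} (hxy : P.adj x y)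
    (h2 : Orb2 P x y) : ∃ e, Nat.card ↥(P.K y) ∣ 2 ^ e * P.q (P.tp x) := by
  have : Fact (Nat.Prime 2) := ⟨Nat.prime_two⟩
  obtain ⟨w, hw, hwy⟩ := exists_other (P := P) (x := x) (y := y)
  obtain ⟨e, he⟩ := IsPGroup.iff_card.1 (pgroup_KS hStar F hA hxy h2 hw (Ne.symm hwy))
  refine ⟨e, ?_⟩
  have h1 := ((P.K y ⊓ P.S w).subgroupOf (P.K y)).card_mul_index
  have h3 : Nat.card ↥((P.K y ⊓ P.S w).subgroupOf (P.K y)) = Nat.card ↥(P.K y ⊓ P.S w) :=
    Nat.card_congr (subgroupOfEquivOfLe inf_le_left).toEquiv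
  rw [h3, he] at h1
  rw [← h1]
  have h4 := F.relIndex_dvd (x := y) (y := x) (w := w) (P.symm hxy) (P.symm hw) hwy
  exact mul_dvd_mul_left _ h4

/-- **`(m - 1) (t_r + s_r) ≤ (i_y)_r`** -/
theorem idx_ge (hStar : StStar.{u, v}) (F : Facts P) (hA : CaseA P 2) {x y y' : V} (hxy : P.adj x y)
    (h2 : Orb2 P x y) (ho : P.Opp y y') {r : ℕ} (hr : r.Prime) (hr2 : r ≠ 2) :
    (P.n / 2 - 1) * ((P.q (P.tp y)).factorization r + (P.q (P.tp x)).factorization r) ≤ (P.idx y y').factorization r := by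
  obtain ⟨e, he⟩ := card_K_dvd hStar F hA hxy h2
  have hs0 : P.q (P.tp x) ≠ 0 := by have := P.two_le (P.tp x); omega
  have ht0 : P.q (P.tp y) ≠ 0 := by have := P.two_le (P.tp y); omega
  have hn : 2 ≤ P.n / 2 := by have := P.hn; omega
  have htp : P.tp x = !P.tp y := P.tp_adj (P.symm hxy)
  have hc := F.count_opp ho
  rw [← htp] at hc
  have hK0 : Nat.card ↥(P.K y) ≠ 0 := Nat.card_pos.ne'
  have hk0 : Nat.card ↥(P.K y ⊓ P.S y') ≠ 0 := Nat.card_pos.ne'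
  have hi0 : P.idx y y' ≠ 0 := by
    intro h
    rw [h, zero_mul] at hc
    exact (mul_ne_zero (mul_ne_zero (pow_ne_zero _ ht0) (pow_ne_zero _ hs0)) hk0) hc.symm
  have h3 := congrArg (fun N => N.factorization r) hc
  beta_reduce at h3
  rw [Nat.factorization_mul hi0 hK0, Nat.factorization_mul (mul_ne_zero (pow_ne_zero _ ht0) (pow_ne_zero _ hs0)) hk0,
    Nat.factorization_mul (pow_ne_zero _ ht0) (pow_ne_zero _ hs0), Nat.factorization_pow, Nat.factorization_pow] at h3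
  simp only [Finsupp.add_apply, Finsupp.smul_apply, smul_eq_mul] at h3
  have h4 : (Nat.card ↥(P.K y)).factorization r ≤ (P.q (P.tp x)).factorization r := by
    have h5 := (Nat.factorization_le_iff_dvd hK0 (mul_ne_zero (pow_ne_zero e two_ne_zero) hs0)).2 he r
    rw [Nat.factorization_mul (pow_ne_zero e two_ne_zero) hs0, Finsupp.add_apply, Nat.factorization_pow,
      Finsupp.smul_apply, Nat.prime_two.factorization, Finsupp.single_apply, if_neg (Ne.symm hr2), smul_zero, zero_add] at h5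
    exact h5
  obtain ⟨m, hm⟩ : ∃ m, P.n / 2 = m + 1 := ⟨P.n / 2 - 1, by omega⟩
  rw [hm, Nat.add_sub_cancel] at h3 ⊢
  rw [Nat.succ_mul] at h3
  rw [mul_add]
  omega

/-- `Orb2` from the action on the neighbours of `x` -/
theorem orb2_of (hH : HerTwo.{v}) (F : Facts P) {x y z : V} (hxy : P.adj x y) (hxz : P.adj x z) (hyz : y ≠ z)
    (hAff : Aff (P.L x)) {r₀ k : ℕ} (hr₀ : r₀.Prime) (hk : 5 ≤ k) (hrk : r₀ + 1 = 2 ^ k)
    (hs : P.q (P.tp x) + 1 = r₀ ^ 2) (h3 : 3 ≤ P.T2 x y z) : Orb2 P x y := by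
  intro Q hQ hQn hQ2 w hw
  rw [T2_eq hxy hxz] at h3
  have hP : P.img x Q ≤ Stb (P.L x) ⟨y, hxy⟩ := by
    rw [stb_L]
    exact img_mono (hQ.trans (P.K_le_S y))
  have hc : Nat.card {w : V // P.adj x w} = r₀ ^ 2 := by rw [P.card_nb x]; exact hs
  have hne : (⟨y, hxy⟩ : {w : V // P.adj x w}) ≠ ⟨z, hxz⟩ := fun h => hyz (congrArg Subtype.val h)
  have hPn := img_normal hxy hQ hQn
  have hP2 : IsPGroup 2 ↥(P.img x Q) := img_pgroup hQ2
  obtain ⟨d, hd⟩ := two_orbit hH (twoTr_L F x) hAff hne hr₀ hk hrk hc h3 hP hPn hP2 ⟨w, hw⟩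
  refine ⟨d, fun g hg => ?_⟩
  have hgx : g • x = x := (hQ hg).2 x (P.symm hxy)
  rcases hd (P.toPerm x ⟨g, hgx⟩) (mem_img.2 ⟨g, hg, hgx, rfl⟩) with h | h
  · exact Or.inl (congrArg Subtype.val h)
  · exact Or.inr (congrArg Subtype.val h)

end

end Cfsg.Agent.H437.Tits
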