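import Cfsg.Agent.H437.Tits.Glob
import Cfsg.Agent.H437.Tits.Arith

/-!
# S3414 [E3]: `r₀ = 7`, `s = 48` does not occur
-/

set_option autoImplicit false

namespace Cfsg.Agent.H437.Tits

open Subgroup Cfsg Cfsg.Agent.H873.Tits Cfsg.Agent.OrdDiv

universe u v

theorem not_sq {c m g : ℕ} (h1 : m ^ 2 < c) (h2 : c < (m + 1) ^ 2) (h : c = g ^ 2) : False := by
  rcases Nat.lt_or_ge m g with h3 | h3
  · have := Nat.pow_le_pow_left (show m + 1 ≤ g from h3) 2
    omega
  · have := Nat.pow_le_pow_left h3 2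
    omega

theorem j_cases : ∀ j < 12, 48 ≤ (2 ^ j) ^ 2 → (48 + 2 ^ j) ∣ 2 * 48 * 2 ^ j * (1 + 48) * (1 + 2 ^ j) →
    j = 3 ∨ j = 4 ∨ j = 6 := by
  decide +kernel

theorem k_le {k c : ℕ} (h : 2 ^ k ≤ c) {m : ℕ} (hm : c < 2 ^ (m + 1)) : k ≤ m := by
  by_contra hcon
  have := Nat.pow_le_pow_right (n := 2) (by norm_num) (show m + 1 ≤ k by omega)
  omega

/-- the possible `r₁` -/
theorem r_cases {r₁ k₁ : ℕ} (hr₁ : r₁.Prime) (h7 : 7 ≤ r₁) (hk₁ : r₁ + 1 = 2 ^ k₁) (hk : k₁ ≤ 8) :
    (k₁ = 3 ∧ r₁ = 7) ∨ (k₁ = 5 ∧ r₁ = 31) ∨ (k₁ = 7 ∧ r₁ = 127) := by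
  have h3 : 3 ≤ k₁ := by
    by_contra hcon
    have := Nat.pow_le_pow_right (n := 2) (by norm_num) (show k₁ ≤ 2 by omega)
    omega
  interval_cases k₁
  · left; exact ⟨rfl, by omega⟩
  · exfalso
    have : r₁ = 15 := by omega
    subst this
    norm_num at hr₁
  · right; left; exact ⟨rfl, by omega⟩
  · exfalso
    have : r₁ = 63 := by omega
    subst this
    norm_num at hr₁
  · right; right; exact ⟨rfl, by omega⟩
  · exfalso
    have : r₁ = 255 := by omega
    subst this
    norm_num at hr₁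

theorem seven (hX : ExSimple.{u, v}) (hT : OrderTable.{u})
    (hS0 : ∀ (S : Type u) [Group S] [Finite S] [IsSimpleGroup S], IsKnownSimple' S)
    (hKA : StKeyAff.{u, v}) (hKN : StKeyNonaff.{u, v})
    (hK0 : StKeyEasy.{u, v}) (hZ : StZstar.{u, v}) (h1c : StTab1c.{v}) (h2 : StTab2.{v}) (hE4 : StE4.{u, v})
    {G : Type u} [Group G] [Finite G] {V : Type v} [Finite V] [MulAction G V] {P : Pol G V} (F : Facts P) (N : Num P)
    (hO : NoOdd G) (hA : CaseA P 2) {x y : V} (hxy : P.adj x y) (hAff : Aff (P.L x)) (hs : P.q (P.tp x) = 48)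
    (hy : Aff (P.L y) ∨ ∃ k, P.q (P.tp y) = 2 ^ k) : False := by
  obtain ⟨w, hyw, hxw⟩ := exists_other (P := P) (x := y) (y := x)
  have hyx : P.adj y x := P.symm hxy
  have htp : P.tp y = !P.tp x := P.tp_adj hxy
  have hTx : ∀ {a b : V}, P.adj x a → P.adj x b → a ≠ b → P.T2 x a b ∣ 42 := by
    intro a b ha hb hab
    have hne : (⟨a, ha⟩ : {w : V // P.adj x w}) ≠ ⟨b, hb⟩ := fun h => hab (congrArg Subtype.val h)
    have h1 := card_two_dvd (twoTr_L F x) hAff hne (r₀ := 7) (by norm_num) (by rw [P.card_nb x, hs]; norm_num)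
    rw [← T2_eq] at h1
    exact h1
  have hcard : Nat.card {w : V // P.adj y w} = P.q (P.tp y) + 1 := P.card_nb y
  have hNum := num_all N (b := P.tp x) (s := 48) (t := P.q (P.tp y)) hs (by rw [htp])
  -- the types of `y`
  have hy' : (∃ j, P.q (P.tp y) = 2 ^ j) ∨ (Aff (P.L y) ∧ ∃ r₁ k₁ : ℕ, r₁.Prime ∧ 7 ≤ r₁ ∧ r₁ + 1 = 2 ^ k₁ ∧
      P.q (P.tp y) + 1 = r₁ ^ 2) := by
    rcases hy with hay | h
    · obtain ⟨Q, hQ⟩ := lq F hA hyx hyw hxw
      rcases h1c (P.L y) _ _ _ _ _ hQ hay (fun r hr hr2 => by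
        rw [← T2_eq]
        exact key_all hKA hKN hK0 hZ h2 hE4 F N hO hA hyx hyw hxw (Or.inl hAff) hr hr2 (Or.inl hr2)) with h | ⟨-, h⟩
      · exact Or.inl h
      · exact Or.inr ⟨hay, h⟩
    · exact Or.inl h
  rcases hy' with ⟨j, hj⟩ | ⟨hay, r₁, k₁, hr₁, h7, hk₁, ht⟩
  · have hn4 : P.n = 4 := n_eq_four N (b := P.tp x) (k := 3) (r₀ := 7) hs (by rw [← htp, hj]) (by norm_num) (by norm_num)
      (by norm_num)
    obtain ⟨h3, h4, h5⟩ := hNum.1 hn4
    have hTy : ∀ {a b : V}, P.adj y a → P.adj y b → a ≠ b → P.T2 y a b ∣ (2 ^ j - 1).factorial := by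
      intro a b ha hb hab
      rw [← hj]
      exact T2_dvd_factorial F ha hb hab
    rw [hj] at h3 h4 h5
    have hj12 : j < 12 := by
      by_contra hcon
      have := Nat.pow_le_pow_right (n := 2) (by norm_num) (show 12 ≤ j by omega)
      norm_num at this h4
      omega
    rcases j_cases j hj12 h3 h5 with rfl | rfl | rfl
    · refine glob hX hT hS0 F hO hxy (n := 4) (s := 48) (t := 8) (A := 42) (B := 5040) (p := 11)
        (l := [(2, 19), (3, 7), (5, 2), (7, 5), (11, 1)]) hn4 hs hj (by norm_num) (by norm_num) hTx ?_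
        (by norm_num) (by decide +kernel) (by decide +kernel) (by decide +kernel)
      exact hTy
    · refine glob hX hT hS0 F hO hxy (n := 4) (s := 48) (t := 16) (A := 42) (B := 1307674368000) (p := 769)
        (l := [(2, 28), (3, 9), (5, 3), (7, 5), (11, 1), (13, 1), (17, 1), (769, 1)]) hn4 hs hj (by norm_num)
        (by norm_num) hTx ?_ (by norm_num) (by decide +kernel) (by decide +kernel) (by decide +kernel)
      intro a b ha hb hab
      exact (hTy ha hb hab).trans (by decide +kernel)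
    · refine glob hX hT hS0 F hO hxy (n := 4) (s := 48) (t := 64) (A := 42)
        (B := 1982608315404440064116146708361898137544773690227268628106279599612729753600000000000000) (p := 439)
        (l := [(2, 78), (3, 33), (5, 15), (7, 14), (11, 5), (13, 5), (17, 3), (19, 3), (23, 2), (29, 2), (31, 2), (37, 1),
          (41, 1), (43, 1), (47, 1), (53, 1), (59, 1), (61, 1), (439, 1)]) hn4 hs hj (by norm_num)
        (by norm_num) hTx ?_ (by norm_num) (by decide +kernel) (by decide +kernel) (by decide +kernel)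
      intro a b ha hb hab
      exact (hTy ha hb hab).trans (by decide +kernel)
  · have hTy : ∀ {a b : V}, P.adj y a → P.adj y b → a ≠ b → P.T2 y a b ∣ r₁ ^ 2 - r₁ := by
      intro a b ha hb hab
      have hne : (⟨a, ha⟩ : {w : V // P.adj y w}) ≠ ⟨b, hb⟩ := fun h => hab (congrArg Subtype.val h)
      have h1 := card_two_dvd (twoTr_L F y) hay hne hr₁ (by rw [P.card_nb y, ht])
      rw [← T2_eq] at h1
      exact h1
    have hr₁r : r₁ ^ 2 = r₁ * r₁ := pow_two r₁
    rcases P.hn with hn | hn | hn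
    · obtain ⟨-, h4, -⟩ := hNum.1 hn
      have hr50 : r₁ < 49 := by
        by_contra hcon
        have := Nat.pow_le_pow_left (show 49 ≤ r₁ by omega) 2
        norm_num at h4
        omega
      have hk5 : k₁ ≤ 5 := k_le (c := 49) (by omega) (by norm_num)
      rcases r_cases hr₁ h7 hk₁ (by omega) with ⟨-, rfl⟩ | ⟨-, rfl⟩ | ⟨rfl, -⟩
      · exact glob hX hT hS0 F hO hxy (n := 4) (s := 48) (t := 48) (A := 42) (B := 42) (p := 461)
          (l := [(2, 18), (3, 6), (5, 1), (7, 6), (461, 1)]) hn hs (by omega) (by norm_num) (by norm_num) hTx hTy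
          (by norm_num) (by decide +kernel) (by decide +kernel) (by decide +kernel)
      · exact glob hX hT hS0 F hO hxy (n := 4) (s := 48) (t := 960) (A := 42) (B := 930) (p := 227)
          (l := [(2, 22), (3, 6), (5, 3), (7, 4), (29, 1), (31, 3), (227, 1)]) hn hs (by omega) (by norm_num)
          (by norm_num) hTx hTy (by norm_num) (by decide +kernel) (by decide +kernel) (by decide +kernel)
      · omega
    · obtain ⟨-, h4, g, hg⟩ := hNum.2.1 hn
      have hr50 : r₁ < 333 := by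
        by_contra hcon
        have := Nat.pow_le_pow_left (show 333 ≤ r₁ by omega) 2
        norm_num at h4
        omega
      have hk8 : k₁ ≤ 8 := k_le (c := 333) (by omega) (by norm_num)
      rcases r_cases hr₁ h7 hk₁ hk8 with ⟨-, rfl⟩ | ⟨-, rfl⟩ | ⟨-, rfl⟩
      · exact glob hX hT hS0 F hO hxy (n := 6) (s := 48) (t := 48) (A := 42) (B := 42) (p := 181)
          (l := [(2, 26), (3, 8), (7, 6), (13, 1), (37, 1), (61, 1), (181, 1)]) hn hs (by omega) (by norm_num)
          (by norm_num) hTx hTy (by norm_num) (by decide +kernel) (by decide +kernel) (by decide +kernel)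
      · have h960 : P.q (P.tp y) = 960 := by omega
        rw [h960] at hg
        exact not_sq (m := 214) (by norm_num) (by norm_num) hg
      · have h960 : P.q (P.tp y) = 16128 := by omega
        rw [h960] at hg
        exact not_sq (m := 879) (by norm_num) (by norm_num) hg
    · obtain ⟨-, h4, g, hg⟩ := hNum.2.2 hn
      have hr50 : r₁ < 49 := by
        by_contra hcon
        have := Nat.pow_le_pow_left (show 49 ≤ r₁ by omega) 2
        norm_num at h4
        omega
      have hk5 : k₁ ≤ 5 := k_le (c := 49) (by omega) (by norm_num)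
      rcases r_cases hr₁ h7 hk₁ (by omega) with ⟨-, rfl⟩ | ⟨-, rfl⟩ | ⟨rfl, -⟩
      · have h48 : P.q (P.tp y) = 48 := by omega
        rw [h48] at hg
        exact not_sq (m := 67) (by norm_num) (by norm_num) hg
      · have h960 : P.q (P.tp y) = 960 := by omega
        rw [h960] at hg
        exact not_sq (m := 303) (by norm_num) (by norm_num) hg
      · omega

end Cfsg.Agent.H437.Tits
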