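import Cfsg.Agent.H437.Tits.Big
import Cfsg.Agent.H437.Tits.Seven

/-!
# S3414 [E3]: `StE3` from its pieces
-/

set_option autoImplicit false

namespace Cfsg.Agent.H437.Tits

open Cfsg Cfsg.Agent.H873.Tits Cfsg.Agent.OrdDiv

universe u v

/-- E3 -/
theorem st_e3_of (hH : HerTwo.{v}) (hK2 : K2.{v}) (hX : ExSimple.{u, v}) (hT : OrderTable.{u})
    (hS0 : ∀ (S : Type u) [Group S] [Finite S] [IsSimpleGroup S], IsKnownSimple' S) (hStar : StStar.{u, v})
    (hKA : StKeyAff.{u, v}) (hKN : StKeyNonaff.{u, v})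
    (hK0 : StKeyEasy.{u, v}) (hZ : StZstar.{u, v}) (h1c : StTab1c.{v}) (h2 : StTab2.{v}) (hE4 : StE4.{u, v}) :
    StE3.{u, v} := by
  intro G _ _ V _ _ P F N hO hA x y hxy hAff r₀ k hr₀ h7 hrk hs hy
  rcases Nat.lt_or_ge k 5 with hk | hk
  · have h3 : 3 ≤ k := by
      by_contra hcon
      have := Nat.pow_le_pow_right (n := 2) (by norm_num) (show k ≤ 2 by omega)
      omega
    have h48 : P.q (P.tp x) = 48 := by
      interval_cases k
      · have : r₀ = 7 := by omega
        subst this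
        omega
      · exfalso
        have : r₀ = 15 := by omega
        subst this
        norm_num at hr₀
    exact seven hX hT hS0 hKA hKN hK0 hZ h1c h2 hE4 F N hO hA hxy hAff h48 hy
  · exact big hH hK2 hStar hKA hKN hK0 hZ h1c h2 hE4 F N hO hA hxy hAff hr₀ hk hrk hs hy

end Cfsg.Agent.H437.Tits
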