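import Cfsg.Agent.H437.Tits.HerA
import Cfsg.Agent.S3695

/-!
# S3414 [E3]: `HerTwo` from Hering's theorem
-/

set_option autoImplicit false

namespace Cfsg.Agent.H437.Tits

open Subgroup Module

universe v

theorem her_two : HerTwo.{v} := by
  intro r k hr hk hrk V _ _ _ hd H hadd htr
  have h32 : 2 ^ 5 ≤ 2 ^ k := Nat.pow_le_pow_right (by norm_num) hk
  have h5 : 2 ^ 5 ∣ 2 ^ k := pow_dvd_pow 2 hk
  have hlin : ∀ h ∈ H, ∀ (c : ZMod r) (v : V), h (c • v) = c • h v := by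
    intro h hh c v
    have h0 : h 0 = 0 := by
      have h1 := hadd h hh 0 0
      rw [add_zero] at h1
      exact left_eq_add.1 h1
    let f : V →+ V :=
      { toFun := h
        map_zero' := h0
        map_add' := hadd h hh }
    exact (f.toZModLinearMap r).map_smul c v
  rcases Cfsg.Agent.S3695.result (K := ZMod r) (V := V) r 2 (ZMod.card r) hd (by norm_num) H hadd
    (fun h hh => ⟨RingEquiv.refl _, fun c v => hlin h hh c v⟩)
    (fun v w hv hw => by
      obtain ⟨h, hh, hv⟩ := htr v w hv hw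
      exact ⟨h, hh, 1, by rw [one_smul]; exact hv⟩) with
    ⟨a, b, F, i1, i2, hab, hF, N, hN, h⟩ | ⟨F, i1, i2, e, hF, h⟩ | ⟨hn, hq, -⟩ | ⟨hn, hq, N, -, h⟩ | ⟨hn, hq, -⟩ |
    ⟨hn, hq, -⟩ | ⟨hn, hq, -⟩
  · left
    have hb : b ≠ 0 := by
      rintro rfl
      omega
    rcases h with ⟨ha, ⟨e⟩⟩ | ⟨m, rfl, hm, ⟨e⟩⟩ | ⟨rfl, -, -⟩ | ⟨rfl, -, -⟩
    · have h1 : a * 1 ≤ a * b := Nat.mul_le_mul_left a (by omega)
      have h2 : a = 2 := by omega
      subst h2
      have h3 : b = 1 := by omega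
      rw [h3, pow_one] at hF
      exact ⟨F, i1, i2, hF, N, hN, ⟨e⟩⟩
    · have h1 : 2 * m * 1 ≤ 2 * m * b := Nat.mul_le_mul_left _ (by omega)
      have h2 : m = 1 := by omega
      subst h2
      have h3 : b = 1 := by omega
      rw [h3, pow_one] at hF
      exact ⟨F, i1, i2, hF, N, hN, ⟨e.trans (spTwo F)⟩⟩
    · omega
    · omega
  · exact Or.inr ⟨F, i1, i2, e, hF, h⟩
  · exfalso; omega
  · exfalso; omega
  · exfalso; omega
  · exfalso; omega
  · exfalso; omega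

end Cfsg.Agent.H437.Tits
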