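import Cfsg.Agent.H437.Tits.E3
import Cfsg.Agent.H437.Tits.HerC
import Cfsg.Agent.H482.Tits.Glob
import Cfsg.Agent.OrdDiv.Table
import Cfsg.Agent.H384.TwoTransMain
import Cfsg.Agent.S0000

/-!
# S3414 [E3]: `st_e3` (helper437, helper482)
-/

set_option autoImplicit false

namespace Cfsg.Agent.H437.Tits

open Cfsg Cfsg.Agent.H873.Tits

universe u v

theorem ex_simple : ExSimple.{u, v} := by
  intro G _ _ V _ _ P F hO h2 p hp hd hd2
  obtain ⟨T, h1, h3, h4, h5, -⟩ := Cfsg.Agent.H482.Tits.exists_simple P F (Cfsg.Agent.H736.Tits.factsE P F) hO h2 hp hd hd2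
  exact ⟨T, h1, h3, h4, h5⟩

/-- **E3** -/
theorem st_e3 (hStar : StStar.{u, v}) (hKA : StKeyAff.{u, v}) (hKN : StKeyNonaff.{u, v})
    (hK0 : StKeyEasy.{u, v}) (hZ : StZstar.{u, v}) (h1c : StTab1c.{v}) (h2 : StTab2.{v}) (hE4 : StE4.{u, v}) :
    StE3.{u, v} :=
  st_e3_of her_two (fun A => Cfsg.Agent.H384.TwoTransMain.main (fun _ _ _ _ => Cfsg.Agent.S0000.result) A) ex_simple
    Cfsg.Agent.OrdDiv.table (fun _ _ _ _ => Cfsg.Agent.S0000.result) hStar hKA hKN hK0 hZ h1c h2 hE4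

end Cfsg.Agent.H437.Tits
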