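import Cfsg.Agent.H437.Tits.HerB
import Cfsg.Agent.H873.Tits.Stmts

/-!
# S3414 [E3]: affine 2-transitive groups as linear groups
-/

set_option autoImplicit false
set_option linter.style.haveILetI false
set_option linter.unusedSectionVars false

namespace Cfsg.Agent.H437.Tits

open Module Cfsg.Agent.H482.Tab Cfsg.Agent.H873.Tits

universe v

/-- an affine 2-transitive group: the stabilizer of `a` is linear -/
theorem exists_TL {Ω : Type v} [Finite Ω] {L : Subgroup (Equiv.Perm Ω)} (h2 : TwoTr L) (hAff : Aff L) {a b : Ω}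
    (hab : a ≠ b) : ∃ (r : ℕ) (_ : Fact r.Prime) (V : Type v) (_ : AddCommGroup V) (_ : Module (ZMod r) V)
      (_ : Finite V) (φ : ↥(Stb L a) →* Module.End (ZMod r) V) (w₁ : V) (β : V ≃ Ω), TL r V (Stb L a) φ w₁ ∧
      β 0 = a ∧ β w₁ = b ∧ ∀ (g : Stb L a) (v : V), β (φ g v) = (g : Equiv.Perm Ω) (β v) := by
  classical
  obtain ⟨W, hWL, hWn, hWc, hWt, hWs⟩ := hAff
  have hconj : ∀ g ∈ L, ∀ w ∈ W, g * w * g⁻¹ ∈ W := by
    intro g hg w hw
    have := hWn.conj_mem ⟨w, hWL hw⟩ (Subgroup.mem_subgroupOf.2 hw) ⟨g, hg⟩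
    exact Subgroup.mem_subgroupOf.1 this
  have hreg : ∀ w ∈ W, ∀ w' ∈ W, w a = w' a → w = w' := by
    intro w hw w' hw' h
    have h1 : (⟨w'⁻¹ * w, W.mul_mem (W.inv_mem hw') hw⟩ : W) ∈ MulAction.stabilizer W a := by
      rw [MulAction.mem_stabilizer_iff]
      change (w'⁻¹ * w) a = a
      rw [Equiv.Perm.mul_apply, Equiv.Perm.inv_eq_iff_eq]
      exact h
    rw [hWs a, Subgroup.mem_bot] at h1
    have h2 := congrArg Subtype.val h1
    exact (inv_mul_eq_one.1 h2).symm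
  letI : CommGroup ↥W :=
    { (inferInstance : Group ↥W) with
      mul_comm := fun x y => hWc.is_comm.comm x y }
  let A := Stb L a
  have hAL : ∀ g ∈ A, g ∈ L := fun g hg => hg.1
  have hAa : ∀ g ∈ A, g a = a := fun g hg => hg.2
  let V := Additive ↥W
  let f : ↥A → V →+ V := fun g => MonoidHom.toAdditive
    { toFun := fun w => ⟨(g : Equiv.Perm Ω) * w * (g : Equiv.Perm Ω)⁻¹, hconj g (hAL g g.2) w w.2⟩
      map_one' := Subtype.ext (by simp)
      map_mul' := fun w w' => Subtype.ext (by simp [mul_assoc]) }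
  have hβbij : Function.Bijective (fun v : V => ((v.toMul : W) : Equiv.Perm Ω) a) := by
    constructor
    · intro w w' h
      exact Additive.toMul.injective (Subtype.ext (hreg _ w.toMul.2 _ w'.toMul.2 h))
    · intro c
      obtain ⟨w, hw⟩ := hWt.exists_smul_eq a c
      exact ⟨Additive.ofMul w, hw⟩
  let β : V ≃ Ω := Equiv.ofBijective _ hβbij
  have hβ : ∀ v : V, β v = ((v.toMul : W) : Equiv.Perm Ω) a := fun _ => rfl
  have hfa : ∀ (g : A) (v : V), β (f g v) = (g : Equiv.Perm Ω) (β v) := by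
    intro g v
    rw [hβ, hβ]
    change ((g : Equiv.Perm Ω) * (v.toMul : W) * (g : Equiv.Perm Ω)⁻¹) a = _
    rw [Equiv.Perm.mul_apply, Equiv.Perm.mul_apply]
    have : (g : Equiv.Perm Ω)⁻¹ a = a := by
      rw [Equiv.Perm.inv_eq_iff_eq]; exact (hAa g g.2).symm
    rw [this]
  have hβ0 : β 0 = a := rfl
  have hf1 : ∀ v, f 1 v = v := fun v => β.injective (by rw [hfa]; rfl)
  have hfm : ∀ g h v, f (g * h) v = f g (f h v) := fun g h v => β.injective (by rw [hfa, hfa, hfa]; rfl)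
  set w₁ : V := β.symm b with hw₁def
  have hw₁b : β w₁ = b := β.apply_symm_apply b
  have hw₁ : w₁ ≠ 0 := by
    intro h
    rw [h, hβ0] at hw₁b
    exact hab hw₁b
  have htr : ∀ v w : V, v ≠ 0 → w ≠ 0 → ∃ g, f g v = w := by
    intro v w hv hw
    have h1 : a ≠ β v := fun h => hv (β.injective (by rw [hβ0]; exact h.symm))
    have h2' : a ≠ β w := fun h => hw (β.injective (by rw [hβ0]; exact h.symm))
    obtain ⟨g, hg, hga, hgv⟩ := h2 a _ a _ h1 h2'
    exact ⟨⟨g, hg, hga⟩, β.injective (by rw [hfa]; exact hgv)⟩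
  have hnt : Nontrivial V := ⟨⟨w₁, 0, hw₁⟩⟩
  have hfinV : Finite V := Finite.of_equiv Ω β.symm
  have hone : 1 < Nat.card V := Finite.one_lt_card
  obtain ⟨r₀, hr₀, hdvd⟩ := Nat.exists_prime_and_dvd hone.ne'
  have hFact : Fact r₀.Prime := ⟨hr₀⟩
  obtain ⟨w₀, hw₀⟩ := exists_prime_addOrderOf_dvd_card' r₀ hdvd
  have hw₀1 : w₀ ≠ 0 := by
    intro h
    rw [h, addOrderOf_zero] at hw₀
    exact hr₀.one_lt.ne hw₀
  have hexp : ∀ w : V, r₀ • w = 0 := by
    intro w
    by_cases hw : w = 0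
    · rw [hw, smul_zero]
    obtain ⟨g, rfl⟩ := htr w₀ w hw₀1 hw
    rw [← map_nsmul, ← hw₀, addOrderOf_nsmul_eq_zero, map_zero]
  letI : Module (ZMod r₀) V := AddCommGroup.zmodModule (n := r₀) hexp
  let φ : A →* Module.End (ZMod r₀) V :=
    { toFun := fun g => AddMonoidHom.toZModLinearMap r₀ (f g)
      map_one' := by
        apply LinearMap.ext
        intro v
        rw [AddMonoidHom.coe_toZModLinearMap, hf1, Module.End.one_apply]
      map_mul' := by
        intro g h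
        apply LinearMap.ext
        intro v
        rw [AddMonoidHom.coe_toZModLinearMap, hfm, Module.End.mul_apply, AddMonoidHom.coe_toZModLinearMap,
          AddMonoidHom.coe_toZModLinearMap] }
  have hφ : ∀ g (v : V), φ g v = f g v := fun g v => rfl
  refine ⟨r₀, hFact, V, inferInstance, inferInstance, hfinV, φ, w₁, β, ?_, hβ0, hw₁b, hfa⟩
  exact
    { inj := fun g h hgh => by
        apply Subtype.ext
        apply Equiv.ext
        intro c
        have h1 : φ g (β.symm c) = φ h (β.symm c) := by rw [hgh]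
        rw [hφ, hφ] at h1
        have h2 := congrArg β h1
        rwa [hfa, hfa, β.apply_symm_apply] at h2
      tr := fun v w hv hw => htr v w hv hw
      ne := hw₁ }

section

variable {Ω : Type v} [Finite Ω] {L : Subgroup (Equiv.Perm Ω)} {a b : Ω}

theorem card_stab_eq {r : ℕ} [Fact r.Prime] {V : Type v} [AddCommGroup V] [Module (ZMod r) V]
    {φ : ↥(Stb L a) →* Module.End (ZMod r) V} {w₁ : V} {β : V ≃ Ω} (hb : β w₁ = b)
    (hβ : ∀ (g : Stb L a) (v : V), β (φ g v) = (g : Equiv.Perm Ω) (β v)) :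
    Nat.card (stab φ w₁) = Nat.card ↥(Stb L a ⊓ Stb L b) := by
  have h1 : (stab φ w₁).map (Stb L a).subtype = Stb L a ⊓ Stb L b := by
    ext g
    constructor
    · rintro ⟨g, hg, rfl⟩
      refine ⟨g.2, g.2.1, ?_⟩
      have hg' : φ g w₁ = w₁ := hg
      have := hβ g w₁
      rw [hg', hb] at this
      exact this.symm
    · rintro ⟨h1, h2⟩
      refine ⟨⟨g, h1⟩, ?_, rfl⟩
      change φ ⟨g, h1⟩ w₁ = w₁
      apply β.injective
      rw [hβ, hb]
      exact h2.2
  rw [← h1]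
  exact Nat.card_congr ((stab φ w₁).equivMapOfInjective (Stb L a).subtype (Stb L a).subtype_injective).toEquiv

theorem finrank_eq {r : ℕ} [Fact r.Prime] {V : Type v} [AddCommGroup V] [Module (ZMod r) V] [Finite V] {r₀ : ℕ}
    (hr₀ : r₀.Prime) (β : V ≃ Ω) (hc : Nat.card Ω = r₀ ^ 2) : r = r₀ ∧ finrank (ZMod r) V = 2 := by
  have hV : Nat.card V = r ^ finrank (ZMod r) V := by
    rw [Module.natCard_eq_pow_finrank (K := ZMod r), Nat.card_zmod]
  rw [Nat.card_congr β, hc] at hV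
  have hr : r.Prime := Fact.out
  have h1 : r₀ ∣ r ^ finrank (ZMod r) V := hV ▸ dvd_pow_self r₀ (by norm_num)
  have h2 := (Nat.prime_dvd_prime_iff_eq hr₀ hr).1 (hr₀.dvd_of_dvd_pow h1)
  subst h2
  exact ⟨rfl, (Nat.pow_right_injective hr₀.two_le hV).symm⟩

/-- the order of the two point stabilizer -/
theorem card_two_dvd (h2 : TwoTr L) (hAff : Aff L) (hab : a ≠ b) {r₀ : ℕ} (hr₀ : r₀.Prime)
    (hc : Nat.card Ω = r₀ ^ 2) : Nat.card ↥(Stb L a ⊓ Stb L b) ∣ r₀ ^ 2 - r₀ := by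
  obtain ⟨r, hr, V, i1, i2, i3, φ, w₁, β, H, h0, hb, hβ⟩ := exists_TL h2 hAff hab
  obtain ⟨rfl, hd⟩ := finrank_eq (r := r) (V := V) hr₀ β hc
  rw [← card_stab_eq hb hβ]
  have := H.card_stab_dvd (d := 1) hd
  simpa using this

/-- normal `2`-subgroups of the stabilizer have orbits of length at most two -/
theorem two_orbit (hH : HerTwo.{v}) (h2 : TwoTr L) (hAff : Aff L) (hab : a ≠ b) {r₀ k : ℕ} (hr₀ : r₀.Prime) (hk : 5 ≤ k)
    (hrk : r₀ + 1 = 2 ^ k) (hc : Nat.card Ω = r₀ ^ 2) (h3 : 3 ≤ Nat.card ↥(Stb L a ⊓ Stb L b))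
    {P : Subgroup (Equiv.Perm Ω)} (hP : P ≤ Stb L a) (hPn : (P.subgroupOf (Stb L a)).Normal) (hP2 : IsPGroup 2 ↥P) (c : Ω) :
    ∃ d : Ω, ∀ x ∈ P, x c = c ∨ x c = d := by
  obtain ⟨r, hr, V, i1, i2, i3, φ, w₁, β, H, h0, hb, hβ⟩ := exists_TL h2 hAff hab
  obtain ⟨rfl, hd⟩ := finrank_eq (r := r) (V := V) hr₀ β hc
  rw [← card_stab_eq hb hβ] at h3
  have hP2' : IsPGroup 2 ↥(P.subgroupOf (Stb L a)) :=
    hP2.of_injective (((Stb L a).subtype.comp (P.subgroupOf (Stb L a)).subtype).codRestrict P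
      (fun x => Subgroup.mem_subgroupOf.1 x.2)) (fun x y h => by
        have h2 := congrArg Subtype.val h
        exact Subtype.ext (Subtype.ext h2))
  refine ⟨β (-(β.symm c)), fun x hx => ?_⟩
  rcases sq_or hH H hk hrk hd h3 hPn hP2' (x := ⟨x, hP hx⟩) (Subgroup.mem_subgroupOf.2 hx) (β.symm c) with h | h
  · left
    have := hβ ⟨x, hP hx⟩ (β.symm c)
    rw [h, β.apply_symm_apply] at this
    exact this.symm
  · right
    have := hβ ⟨x, hP hx⟩ (β.symm c)
    rw [h, β.apply_symm_apply] at this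
    exact this.symm

end

end Cfsg.Agent.H437.Tits
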