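import Cfsg.Agent.H437.Tits.Ord
import Cfsg.Agent.H437.Tits.Lin
import Cfsg.Agent.H873.Tits.AsmA
import Cfsg.Agent.H736.Tits.Path
import Cfsg.Agent.H813.TT.Two

/-!
# S3414 [E3]: the order of `G`
-/

set_option autoImplicit false

namespace Cfsg.Agent.H437.Tits

open Subgroup Cfsg Cfsg.Agent.H873.Tits Cfsg.Agent.OrdDiv

universe u v

/-- existence of a large simple normal subgroup (helper482) -/
def ExSimple : Prop := ∀ {G : Type u} [Group G] [Finite G] {V : Type v} [Finite V] [MulAction G V] (P : Pol G V), Facts P →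
  NoOdd G → (∀ b, 2 ∣ P.q b) → ∀ {p : ℕ}, p.Prime → p ∣ ch P.n (P.q true) (P.q false) → ¬ p ^ 2 ∣ Nat.card G →
  ∃ T : Subgroup G, T.Normal ∧ IsSimpleGroup ↥T ∧ ¬ IsMulCommutative ↥T ∧ ch P.n (P.q true) (P.q false) ∣ Nat.card T

section

variable {G : Type u} [Group G] [Finite G] {V : Type v} [Finite V] [MulAction G V] {P : Pol G V}

omit [Finite G] in
theorem T2_dvd_factorial (F : Facts P) {y x w : V} (hyx : P.adj y x) (hyw : P.adj y w) (hxw : x ≠ w) :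
    P.T2 y x w ∣ (P.q (P.tp y) - 1).factorial := by
  have hq := P.two_le (P.tp y)
  rw [T2_eq hyx hyw]
  have hcard : Nat.card {w : V // P.adj y w} = P.q (P.tp y) + 1 := P.card_nb y
  set Ω := {w : V // P.adj y w}
  have hne : (⟨x, hyx⟩ : Ω) ≠ ⟨w, hyw⟩ := fun h => hxw (congrArg Subtype.val h)
  generalize (⟨x, hyx⟩ : Ω) = a at hne ⊢
  generalize (⟨w, hyw⟩ : Ω) = b at hne ⊢
  have h2 : H813.TT.T2 ↥(P.L y) Ω := by
    intro x y x' y' hxy hxy'
    obtain ⟨g, hg, h1, h2⟩ := twoTr_L F _ x y x' y' hxy hxy'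
    exact ⟨⟨g, hg⟩, h1, h2⟩
  have h3 := H813.TT.card_two (by rw [hcard]; omega) h2 hne
  have h4 : Nat.card ↥(Stb (P.L y) a ⊓ Stb (P.L y) b) =
      Nat.card ↥(MulAction.stabilizer ↥(P.L y) a ⊓ MulAction.stabilizer ↥(P.L y) b) := by
    apply Nat.card_congr
    exact ⟨fun g => ⟨⟨g.1, g.2.1.1⟩, g.2.1.2, g.2.2.2⟩, fun g => ⟨g.1.1, ⟨g.1.2, g.2.1⟩, ⟨g.1.2, g.2.2⟩⟩,
      fun _ => rfl, fun _ => rfl⟩
  have h5 : Nat.card ↥(P.L y) ∣ (P.q (P.tp y) + 1).factorial := by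
    rw [← hcard, ← Nat.card_perm]
    exact Subgroup.card_subgroup_dvd_card _
  rw [h3, hcard, Nat.add_sub_cancel, ← h4] at h5
  obtain ⟨m, hm⟩ : ∃ m, P.q (P.tp y) = m + 1 := ⟨P.q (P.tp y) - 1, by omega⟩
  rw [hm, Nat.add_sub_cancel]
  rw [hm, Nat.factorial_succ (m + 1), Nat.factorial_succ m] at h5
  exact Nat.dvd_of_mul_dvd_mul_left (by omega) (Nat.dvd_of_mul_dvd_mul_left (by omega) h5)

omit [Finite G] [Finite V] in
theorem ch_symm {b : Bool} {s t : ℕ} (hs : P.q b = s) (ht : P.q (!b) = t) : ch P.n (P.q true) (P.q false) = ch P.n s t ∧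
    P.q true * P.q false = s * t := by
  cases b
  · rw [Bool.not_false] at ht
    rw [hs, ht]
    refine ⟨?_, mul_comm _ _⟩
    unfold ch
    rw [mul_comm t s, mul_comm (1 + t)]
  · rw [Bool.not_true] at ht
    rw [hs, ht]
    exact ⟨rfl, rfl⟩

/-- **the order of `G`** -/
theorem glob (hX : ExSimple.{u, v}) (hT : OrderTable.{u})
    (hS0 : ∀ (S : Type u) [Group S] [Finite S] [IsSimpleGroup S], IsKnownSimple' S) (F : Facts P) (hO : NoOdd G)
    {x y : V} (hxy : P.adj x y) {n s t A B p : ℕ} {l : List (ℕ × ℕ)} (hn : P.n = n) (hs : P.q (P.tp x) = s)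
    (ht : P.q (P.tp y) = t) (h2s : 2 ∣ s) (h2t : 2 ∣ t)
    (hTx : ∀ {a b : V}, P.adj x a → P.adj x b → a ≠ b → P.T2 x a b ∣ A)
    (hTy : ∀ {a b : V}, P.adj y a → P.adj y b → a ≠ b → P.T2 y a b ∣ B) (hp : p.Prime) (hpd : p ∣ ch n s t)
    (hp2 : ¬ p ^ 2 ∣ ch n s t * (s * t) ^ (n / 2) * (A * B))
    (hE : Emp l (ch n s t * (s * t) ^ (n / 2) * (A * B)) (ch n s t) = true) : False := by
  have htp : P.tp y = !P.tp x := P.tp_adj hxy
  obtain ⟨w, hyw, hxw⟩ := exists_other (P := P) (x := y) (y := x)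
  obtain ⟨γ, hγ, h1, h2, h3⟩ := F.extend3 hxy hyw hxw
  have FE := Cfsg.Agent.H736.Tits.factsE P F
  have hG := FE.card_G hγ
  have hH := FE.card_H hγ
  obtain ⟨e1, e2⟩ := ch_symm (P := P) (t := t) hs (by rw [← htp]; exact ht)
  have h4 := P.hn
  have hadj0 : P.adj x (γ 0) := by
    have := P.symm (hγ.1 0 (by omega))
    rwa [zero_add, h1] at this
  have hne0 : γ 0 ≠ y := by
    have := hγ.2 0 (by omega)
    rw [zero_add, h2] at this
    exact this.symm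
  rw [h1, h2, h3] at hH
  have hHd : Nat.card ↥(P.H γ) ∣ A * B := hH.trans (Nat.mul_dvd_mul (hTx hadj0 hxy hne0) (hTy (P.symm hxy) hyw hxw))
  have hGd : Nat.card G ∣ ch n s t * (s * t) ^ (n / 2) * (A * B) := by
    rw [hG, e1, e2, hn]
    exact Nat.mul_dvd_mul_left _ hHd
  obtain ⟨T, hTn, hTs, hTa, hTd⟩ := hX P F hO (by
    intro b
    rcases Bool.eq_or_eq_not b (P.tp x) with h | h
    · rw [h, hs]; exact h2s
    · rw [h, ← htp, ht]; exact h2t) hp (by rw [e1, hn]; exact hpd) (fun h => hp2 (h.trans hGd))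
  rw [e1, hn] at hTd
  exact no_simple hT (hS0 ↥T) hTa hE ((Subgroup.card_subgroup_dvd_card T).trans hGd) hTd

end

end Cfsg.Agent.H437.Tits
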