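import Cfsg.Agent.H482.Tab.Lin
import Cfsg.Agent.TwoFusion.SLTwoFacts
import Cfsg.Agent.Lib.FieldAutCard
import Cfsg.Agent.S0242
import Cfsg.Agent.S0244

/-!
# S3414 [E3]: normal 2-subgroups of transitive linear groups of dimension two over `F_r`, `r + 1 = 2 ^ k`, `k ≥ 5`

`sq_or` : they consist of `±1`.  (Hering's theorem is the hypothesis `HerTwo`.)
-/

set_option autoImplicit false

namespace Cfsg.Agent.H437.Tits

open Subgroup Module Cfsg.Agent.H482.Tab

universe v

/-- `Sp_2 = SL_2` -/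
def spTwo (F : Type) [Field F] : Matrix.symplecticGroup (Fin 1) F ≃* Matrix.SpecialLinearGroup (Fin 2) F where
  toFun A := ⟨Matrix.reindex finSumFinEquiv finSumFinEquiv (A : Matrix (Fin 1 ⊕ Fin 1) (Fin 1 ⊕ Fin 1) F), by
    rw [Matrix.det_reindex_self]
    exact (S0244.result _).1 A.2⟩
  invFun A := ⟨Matrix.reindex finSumFinEquiv.symm finSumFinEquiv.symm (A : Matrix (Fin 2) (Fin 2) F), by
    rw [S0244.result, Matrix.det_reindex_self]
    exact A.2⟩
  left_inv A := by
    apply Subtype.ext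
    ext i j
    simp
  right_inv A := by
    apply Subtype.ext
    ext i j
    simp
  map_mul' A B := by
    apply Subtype.ext
    change Matrix.reindex finSumFinEquiv finSumFinEquiv (A.1 * B.1) =
      Matrix.reindex finSumFinEquiv finSumFinEquiv A.1 * Matrix.reindex finSumFinEquiv finSumFinEquiv B.1
    rw [Matrix.reindex_apply, Matrix.reindex_apply, Matrix.reindex_apply, Matrix.submatrix_mul_equiv]

/-- Hering's theorem for `F_r ^ 2`, `r + 1 = 2 ^ k`, `k ≥ 5` -/
def HerTwo : Prop := ∀ (r k : ℕ) [Fact r.Prime], 5 ≤ k → r + 1 = 2 ^ k → ∀ (V : Type v) [AddCommGroup V] [Module (ZMod r) V]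
  [Finite V], finrank (ZMod r) V = 2 → ∀ H : Subgroup (Equiv.Perm V), (∀ h ∈ H, ∀ v w : V, h (v + w) = h v + h w) →
  (∀ v w : V, v ≠ 0 → w ≠ 0 → ∃ h ∈ H, h v = w) →
  (∃ (F : Type) (_ : Field F) (_ : Fintype F), Fintype.card F = r ∧ ∃ N : Subgroup H, N.Normal ∧
    Nonempty (N ≃* Matrix.SpecialLinearGroup (Fin 2) F)) ∨
  (∃ (F : Type) (_ : Field F) (_ : Fintype F) (e : V ≃+ F), Fintype.card F = r ^ 2 ∧
      ∀ h ∈ H, ∃ (c : F) (σ : F ≃+* F), ∀ v : V, e (h v) = c * σ (e v))

theorem dvd_card_SL {F : Type} [Field F] [Fintype F] {r : ℕ} (hr : 2 ≤ r) (hF : Fintype.card F = r) :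
    r ∣ Nat.card (Matrix.SpecialLinearGroup (Fin 2) F) := by
  have h1 := Cfsg.Agent.S0242.result hF 2 (by norm_num)
  rw [Fin.prod_univ_two] at h1
  simp only [Fin.val_zero, Fin.val_one, pow_zero, pow_one] at h1
  have h2 : r ^ 2 - r = (r - 1) * r := by
    rw [pow_two, Nat.sub_one_mul]
  rw [h2, mul_left_comm] at h1
  have h3 := Nat.eq_of_mul_eq_mul_left (by omega) h1
  rw [h3]
  exact Dvd.intro_left _ rfl

/-- normal `2`-subgroups of `SL_2(F)` are central -/
theorem two_central {F : Type} [Field F] [Fintype F] {r : ℕ} (hr : r.Prime) (h3 : 3 < r) (hF : Fintype.card F = r)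
    {R : Subgroup (Matrix.SpecialLinearGroup (Fin 2) F)} (hR : R.Normal) (hR2 : IsPGroup 2 R)
    {x : Matrix.SpecialLinearGroup (Fin 2) F} (hx : x ∈ R) :
    x ∈ center (Matrix.SpecialLinearGroup (Fin 2) F) := by
  have hs : IsSimpleGroup (Matrix.ProjectiveSpecialLinearGroup (Fin 2) F) :=
    TwoFusion.SLTwoFacts.isSimpleGroup_psl (by rw [hF]; exact h3)
  let π := QuotientGroup.mk' (center (Matrix.SpecialLinearGroup (Fin 2) F))
  have hn : (R.map π).Normal := hR.map _ (QuotientGroup.mk'_surjective _)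
  rcases hs.eq_bot_or_eq_top_of_normal (R.map π) hn with h | h
  · have h1 : π x ∈ R.map π := mem_map_of_mem _ hx
    rw [h, mem_bot] at h1
    exact (QuotientGroup.eq_one_iff _).1 h1
  · exfalso
    have h1 := hR2.map π
    rw [h] at h1
    have h2 : IsPGroup 2 (Matrix.ProjectiveSpecialLinearGroup (Fin 2) F) := by
      intro y
      obtain ⟨k, hk⟩ := h1 ⟨y, mem_top _⟩
      exact ⟨k, congrArg Subtype.val hk⟩
    have hZ : IsPGroup 2 (center (Matrix.SpecialLinearGroup (Fin 2) F)) := by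
      intro z
      refine ⟨1, ?_⟩
      obtain ⟨c, hc, h⟩ := Matrix.SpecialLinearGroup.mem_center_iff.1 z.2
      rw [Fintype.card_fin] at hc
      apply Subtype.ext
      apply Subtype.ext
      rw [pow_one, Subgroup.coe_pow, Matrix.SpecialLinearGroup.coe_pow, ← h, Subgroup.coe_one,
        Matrix.SpecialLinearGroup.coe_one, ← map_pow, hc, map_one]
    have h4 : IsPGroup 2 (Matrix.SpecialLinearGroup (Fin 2) F) := by
      intro y
      obtain ⟨k, hk⟩ := h2 (π y)
      have hy : y ^ 2 ^ k ∈ center (Matrix.SpecialLinearGroup (Fin 2) F) := by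
        rw [← map_pow] at hk
        exact (QuotientGroup.eq_one_iff _).1 hk
      obtain ⟨l, hl⟩ := hZ ⟨_, hy⟩
      refine ⟨k + l, ?_⟩
      have := congrArg Subtype.val hl
      rw [pow_add, pow_mul]
      exact this
    have : Fact r.Prime := ⟨hr⟩
    have : Fact (Nat.Prime 2) := ⟨Nat.prime_two⟩
    obtain ⟨n, hn⟩ := IsPGroup.iff_card.1 h4
    have h5 := dvd_card_SL hr.two_le hF
    rw [hn] at h5
    have := (Nat.prime_dvd_prime_iff_eq hr Nat.prime_two).1 (hr.dvd_of_dvd_pow h5)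
    omega

theorem sq_center {F : Type} [Field F] {z : Matrix.SpecialLinearGroup (Fin 2) F}
    (hz : z ∈ center (Matrix.SpecialLinearGroup (Fin 2) F)) : z ^ 2 = 1 := by
  obtain ⟨c, hc, h⟩ := Matrix.SpecialLinearGroup.mem_center_iff.1 hz
  rw [Fintype.card_fin] at hc
  apply Subtype.ext
  rw [Matrix.SpecialLinearGroup.coe_pow, ← h, Matrix.SpecialLinearGroup.coe_one, ← map_pow, hc, map_one]

end Cfsg.Agent.H437.Tits
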