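import Cfsg.Agent.H437.Tits.HerA

/-!
# S3414 [E3]: `sq_or`
-/

set_option autoImplicit false

namespace Cfsg.Agent.H437.Tits

open Subgroup Module Cfsg.Agent.H482.Tab

universe v w

section

variable {r₀ : ℕ} [Fact r₀.Prime] {V : Type v} [AddCommGroup V] [Module (ZMod r₀) V] [Finite V]
variable {A : Type w} [Group A] [Finite A] {φ : A →* Module.End (ZMod r₀) V} {w₁ : V}

/-- semilinear groups over `F_{r^2}`: stabilizers have order at most two -/
theorem card_stab_semi (H : TL r₀ V A φ w₁) {F : Type} [Field F] [Fintype F] (e : V ≃+ F)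
    (hF : Fintype.card F = r₀ ^ 2) (hs : ∀ g : A, ∃ (c : F) (σ : F ≃+* F), ∀ v : V, e (φ g v) = c * σ (e v)) :
    Nat.card (stab φ w₁) ≤ 2 := by
  classical
  have hr : r₀.Prime := Fact.out
  have hc : Nat.card (F ≃+* F) = 2 := Cfsg.Agent.Lib.FieldAutCard.card_ringAut (p := r₀) (f := 2) (by norm_num) hF
  have hfin : Finite (F ≃+* F) := Nat.finite_of_card_ne_zero (by rw [hc]; norm_num)
  choose c σ h using hs
  rw [← hc]
  have hw : e w₁ ≠ 0 := by
    intro h0
    exact H.ne (e.injective (by rw [h0, map_zero]))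
  refine Nat.card_le_card_of_injective (fun g : stab φ w₁ => σ g) ?_
  intro g g' hgg
  have hgg' : σ g = σ g' := hgg
  apply Subtype.ext
  apply H.inj
  apply LinearMap.ext
  intro v
  apply e.injective
  have h1 := h g w₁
  have h2 := h g' w₁
  rw [show φ (g : A) w₁ = w₁ from g.2] at h1
  rw [show φ (g' : A) w₁ = w₁ from g'.2] at h2
  have h3 : σ g (e w₁) ≠ 0 := by
    rw [Ne, map_eq_zero]
    exact hw
  have h4 : c g = c g' := by
    have h5 := h1.symm.trans h2
    rw [← hgg'] at h5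
    exact mul_right_cancel₀ h3 h5
  rw [h, h, h4, hgg']

/-- the image of `A` in the permutations of `V` -/
def toP (φ : A →* Module.End (ZMod r₀) V) : A →* Equiv.Perm V where
  toFun g := ⟨fun v => φ g v, fun v => φ g⁻¹ v, fun v => inv_apply φ g v, fun v => apply_inv φ g v⟩
  map_one' := by
    ext v
    change φ 1 v = v
    rw [map_one]; rfl
  map_mul' g h := by
    ext v
    change φ (g * h) v = φ g (φ h v)
    rw [map_mul]; rfl

theorem exists_SL (hH : HerTwo.{v}) (H : TL r₀ V A φ w₁) {k : ℕ} (hk : 5 ≤ k) (hr : r₀ + 1 = 2 ^ k)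
    (hd : finrank (ZMod r₀) V = 2) (h3 : 3 ≤ Nat.card (stab φ w₁)) :
    ∃ (F : Type) (_ : Field F) (_ : Fintype F), Fintype.card F = r₀ ∧ ∃ N : Subgroup A, N.Normal ∧
    Nonempty (N ≃* Matrix.SpecialLinearGroup (Fin 2) F) := by
  classical
  have hinj : Function.Injective (toP φ) := by
    intro g h hgh
    apply H.inj
    apply LinearMap.ext
    intro v
    exact DFunLike.congr_fun hgh v
  rcases hH r₀ k hk hr V hd (toP φ).range (by
      rintro _ ⟨g, rfl⟩ v w
      exact map_add (φ g) v w) (by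
      intro v w hv hw
      obtain ⟨g, hg⟩ := H.tr v w hv hw
      exact ⟨toP φ g, ⟨g, rfl⟩, hg⟩) with ⟨F, i1, i2, hF, N, hN, ⟨e⟩⟩ | ⟨F, i1, i2, e, hF, h⟩
  · refine ⟨F, i1, i2, hF, ?_⟩
    let ε : A ≃* (toP φ).range := MonoidHom.ofInjective hinj
    refine ⟨N.comap ε.toMonoidHom, hN.comap _, ⟨?_⟩⟩
    have h1 : (N.comap ε.toMonoidHom).map ε.toMonoidHom = N := map_comap_eq_self_of_surjective ε.surjective N
    exact ((ε.subgroupMap (N.comap ε.toMonoidHom)).trans (MulEquiv.subgroupCongr h1)).trans e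
  · exfalso
    have := card_stab_semi H e hF (fun g => h (toP φ g) ⟨g, rfl⟩)
    omega

/-- **normal `2`-subgroups consist of `±1`** -/
theorem sq_or (hH : HerTwo.{v}) (H : TL r₀ V A φ w₁) {k : ℕ} (hk : 5 ≤ k) (hr : r₀ + 1 = 2 ^ k)
    (hd : finrank (ZMod r₀) V = 2) (h3 : 3 ≤ Nat.card (stab φ w₁)) {P : Subgroup A} (hP : P.Normal)
    (hP2 : IsPGroup 2 P) {x : A} (hx : x ∈ P) (v : V) : φ x v = v ∨ φ x v = -v := by
  classical
  have hr0 : r₀.Prime := Fact.out
  have h32 : 2 ^ 5 ≤ 2 ^ k := Nat.pow_le_pow_right (by norm_num) hk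
  have h31 : 31 ≤ r₀ := by omega
  obtain ⟨F, i1, i2, hF, N, hN, ⟨e⟩⟩ := exists_SL hH H hk hr hd h3
  by_cases hv : v = 0
  · left; rw [hv, map_zero]
  -- an element of order `r₀` in `N` fixing `v`
  obtain ⟨ρ, hρN, hρo, hρv⟩ : ∃ ρ ∈ N, orderOf ρ = r₀ ∧ φ ρ v = v := by
    have h4 : r₀ ∣ Nat.card N := by
      rw [Nat.card_congr e.toEquiv]
      exact dvd_card_SL hr0.two_le hF
    obtain ⟨⟨ρ, hρ⟩, ho⟩ := exists_prime_orderOf_dvd_card' r₀ h4
    have ho' : orderOf ρ = r₀ := by rw [← ho]; exact (Subgroup.orderOf_mk ρ hρ).symm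
    have h5 := H.card_modEq hr0 ρ ⟨1, by rw [pow_one, ← ho']; exact pow_orderOf_eq_one ρ⟩
    have hV : Nat.card V = r₀ ^ 2 := by
      rw [Module.natCard_eq_pow_finrank (K := ZMod r₀), Nat.card_zmod, hd]
    have h6 : r₀ ∣ Nat.card (LinearMap.ker (φ ρ - 1)) := by
      have : Nat.card V ≡ 0 [MOD r₀] := by
        rw [hV]
        exact (Nat.modEq_zero_iff_dvd).2 (dvd_pow_self _ (by norm_num))
      exact (Nat.modEq_zero_iff_dvd).1 (h5.trans this)
    obtain ⟨u, hu, hu0⟩ : ∃ u : V, φ ρ u = u ∧ u ≠ 0 := by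
      by_contra hcon
      push Not at hcon
      have h7 : LinearMap.ker (φ ρ - 1) = ⊥ := by
        rw [eq_bot_iff]
        intro u hu
        rw [LinearMap.mem_ker, LinearMap.sub_apply, sub_eq_zero] at hu
        exact hcon u hu
      rw [h7] at h6
      have h8 : Nat.card (⊥ : Submodule (ZMod r₀) V) = 1 := Nat.card_unique
      rw [h8] at h6
      exact hr0.one_lt.ne' (Nat.dvd_one.1 h6)
    obtain ⟨h, hh⟩ := H.tr u v hu0 hv
    refine ⟨h * ρ * h⁻¹, hN.conj_mem ρ hρ h, ?_, ?_⟩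
    · rw [← ho']
      have := orderOf_injective (MulAut.conj h).toMonoidHom (MulAut.conj h).injective ρ
      exact this
    · rw [map_mul, map_mul]
      change φ h (φ ρ (φ h⁻¹ v)) = v
      rw [← hh, inv_apply, hu]
  -- `x` commutes with `ρ`
  have hcomm : x * ρ = ρ * x := by
    set c := x * ρ * x⁻¹ * ρ⁻¹ with hc
    have hcN : c ∈ N := mul_mem (hN.conj_mem ρ hρN x) (inv_mem hρN)
    have hcP : c ∈ P := by
      have : c = x * (ρ * x⁻¹ * ρ⁻¹) := by rw [hc]; group
      rw [this]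
      exact mul_mem hx (hP.conj_mem _ (inv_mem hx) ρ)
    -- the normal `2`-subgroup of `SL_2`
    let R : Subgroup (Matrix.SpecialLinearGroup (Fin 2) F) := (P.subgroupOf N).map e.toMonoidHom
    have hR : R.Normal := (hP.comap N.subtype).map _ e.surjective
    have hR2 : IsPGroup 2 R := (hP2.comap_of_injective N.subtype N.subtype_injective).map _
    have h4 : e ⟨c, hcN⟩ ∈ center (Matrix.SpecialLinearGroup (Fin 2) F) :=
      two_central hr0 (by omega) hF hR hR2 (mem_map_of_mem _ (show (⟨c, hcN⟩ : N) ∈ P.subgroupOf N from hcP))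
    have h5 : c ^ 2 = 1 := by
      have := sq_center h4
      rw [← map_pow, ← map_one e] at this
      exact congrArg Subtype.val (e.injective this)
    have h6 : c * ρ = ρ * c := by
      have := (mem_center_iff.1 h4) (e ⟨ρ, hρN⟩)
      rw [← map_mul, ← map_mul] at this
      exact (congrArg Subtype.val (e.injective this)).symm
    have h7 : x * ρ * x⁻¹ = c * ρ := by rw [hc]; group
    have hodd : r₀ % 2 = 1 := by
      have : 2 ∣ 2 ^ k := dvd_pow_self 2 (by omega)
      omega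
    have h8 : c = 1 := by
      have h9 : (x * ρ * x⁻¹) ^ r₀ = 1 := by
        rw [conj_pow, ← hρo, pow_orderOf_eq_one, mul_one, mul_inv_cancel]
      have hcm : Commute c ρ := h6
      rw [h7, hcm.mul_pow] at h9
      have h10 : ρ ^ r₀ = 1 := by rw [← hρo]; exact pow_orderOf_eq_one ρ
      rw [h10, mul_one] at h9
      have h11 : c ^ r₀ = c := by
        conv_lhs => rw [← Nat.div_add_mod r₀ 2, hodd, pow_add, pow_mul, h5, one_pow, one_mul, pow_one]
      rw [h11] at h9
      exact h9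
    rw [h8, one_mul] at h7
    exact mul_inv_eq_iff_eq_mul.1 h7
  -- the fixed space of `ρ` is one-dimensional
  have hker : finrank (ZMod r₀) (LinearMap.ker (φ ρ - 1)) = 1 := by
    have hv' : v ∈ LinearMap.ker (φ ρ - 1) := by
      rw [LinearMap.mem_ker, LinearMap.sub_apply, hρv]
      exact sub_self v
    have : FiniteDimensional (ZMod r₀) V := Module.Finite.of_finite
    have h4 : LinearMap.ker (φ ρ - 1) ≠ ⊥ := by
      intro h
      rw [h, Submodule.mem_bot] at hv'
      exact hv hv'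
    have h5 : LinearMap.ker (φ ρ - 1) ≠ ⊤ := by
      intro h
      rw [LinearMap.ker_eq_top, sub_eq_zero] at h
      have h6 : ρ = 1 := H.inj (by rw [h, map_one])
      rw [h6, orderOf_one] at hρo
      omega
    have h6 := Submodule.finrank_lt h5
    have h7 : 0 < finrank (ZMod r₀) (LinearMap.ker (φ ρ - 1)) := by
      rw [Nat.pos_iff_ne_zero]
      intro h0
      exact h4 (Submodule.finrank_eq_zero.1 h0)
    omega
  have hxv : φ x v ∈ LinearMap.ker (φ ρ - 1) := by
    rw [LinearMap.mem_ker, LinearMap.sub_apply, sub_eq_zero]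
    change φ ρ (φ x v) = φ x v
    have h4 : φ (ρ * x) v = φ (x * ρ) v := by rw [hcomm]
    rw [map_mul, map_mul] at h4
    change φ ρ (φ x v) = φ x (φ ρ v) at h4
    rw [h4, hρv]
  obtain ⟨c, hc⟩ : ∃ c : ZMod r₀, φ x v = c • v := by
    have hv' : v ∈ LinearMap.ker (φ ρ - 1) := by
      rw [LinearMap.mem_ker, LinearMap.sub_apply, hρv]
      exact sub_self v
    have h4 := (finrank_eq_one_iff_of_nonzero' (⟨v, hv'⟩ : LinearMap.ker (φ ρ - 1)) (by
      intro h
      exact hv (congrArg Subtype.val h))).1 hker ⟨φ x v, hxv⟩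
    obtain ⟨c, hc⟩ := h4
    exact ⟨c, (congrArg Subtype.val hc).symm⟩
  -- the eigenvalue is `±1`
  have hpow : ∀ n : ℕ, φ (x ^ n) v = c ^ n • v := by
    intro n
    induction n with
    | zero => rw [pow_zero, map_one, pow_zero, one_smul]; rfl
    | succ n ih =>
      rw [pow_succ, map_mul]
      change φ (x ^ n) (φ x v) = _
      rw [hc, map_smul, ih, smul_smul, ← pow_succ']
  obtain ⟨n, hn⟩ := hP2 ⟨x, hx⟩
  have hn' : x ^ 2 ^ n = 1 := congrArg Subtype.val hn
  have hcn : c ^ 2 ^ n = 1 := by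
    have h4 := hpow (2 ^ n)
    rw [hn', map_one] at h4
    have h5 : (c ^ 2 ^ n - 1) • v = 0 := by
      rw [sub_smul, one_smul, ← h4]
      exact sub_self v
    rcases smul_eq_zero.1 h5 with h6 | h6
    · exact sub_eq_zero.1 h6
    · exact absurd h6 hv
  have hc0 : c ≠ 0 := by
    rintro rfl
    rw [zero_pow (by positivity)] at hcn
    exact zero_ne_one hcn
  have hc1 : c ^ (r₀ - 1) = 1 := ZMod.pow_card_sub_one_eq_one hc0
  have hc2 : c ^ 2 = 1 := by
    have h4 : orderOf c ∣ Nat.gcd (2 ^ n) (r₀ - 1) :=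
      Nat.dvd_gcd (orderOf_dvd_of_pow_eq_one hcn) (orderOf_dvd_of_pow_eq_one hc1)
    have h5 : Nat.gcd (2 ^ n) (r₀ - 1) ∣ 2 := by
      have h6 : Nat.gcd (2 ^ n) (r₀ - 1) ∣ 2 ^ n := Nat.gcd_dvd_left _ _
      obtain ⟨j, -, hj⟩ := (Nat.dvd_prime_pow Nat.prime_two).1 h6
      have h7 : Nat.gcd (2 ^ n) (r₀ - 1) ∣ r₀ - 1 := Nat.gcd_dvd_right _ _
      rw [hj] at h7 ⊢
      rcases Nat.lt_or_ge j 2 with h8 | h8
      · exact pow_dvd_pow 2 (show j ≤ 1 by omega)
      · exfalso
        have h9 : 2 ^ 2 ∣ r₀ - 1 := (pow_dvd_pow 2 h8).trans h7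
        have h10 : 2 ^ 2 ∣ 2 ^ k := pow_dvd_pow 2 (by omega)
        omega
    exact orderOf_dvd_iff_pow_eq_one.1 (h4.trans h5)
  rw [pow_two] at hc2
  rcases mul_self_eq_one_iff.1 hc2 with h | h
  · left; rw [hc, h, one_smul]
  · right; rw [hc, h, neg_smul, one_smul]

end

end Cfsg.Agent.H437.Tits
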