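import Cfsg.Agent.H813.TT.NonAff

/-!
# S3414 [E3]: the index of the socle of a 2-transitive group of degree `2 ^ j + 1` divides `2 j`
-/

set_option autoImplicit false
open Cfsg

namespace Cfsg.Agent.H437.Tits

open Subgroup MulAction Cfsg.Agent.H384.TwoTrans Cfsg.Agent.H499.TT Cfsg.Agent.H361.Tits Cfsg.Agent.H813.TT

universe u v

variable {G : Type u} {Ω : Type v} [Group G] [MulAction G Ω] {T : Subgroup G}

theorem card_dvd_factorial (A : AS G Ω T) : Nat.card G ∣ (Nat.card Ω).factorial := by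
  have := A.finG
  have := A.finΩ
  have := A.faithful
  rw [← Nat.card_perm]
  exact Subgroup.card_dvd_of_injective (MulAction.toPermHom G Ω) MulAction.toPerm_injective

theorem two_pow_ne {j N r : ℕ} (hr : r.Prime) (hr2 : r ≠ 2) (hN : r ∣ N) (h : N = 2 ^ j) : False := by
  rw [h] at hN
  exact hr2 ((Nat.prime_dvd_prime_iff_eq hr Nat.prime_two).1 (hr.dvd_of_dvd_pow hN))

theorem index_dvd (A : AS G Ω T) (hK : Known2 ↥T (Nat.card Ω)) {j : ℕ} (hj : 4 ≤ j) (hn : Nat.card Ω = 2 ^ j + 1) :
    T.index ∣ 2 * j := by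
  have hfin := A.finG
  have hfinΩ := A.finΩ
  have hff := A.faithful
  generalize hn' : Nat.card Ω = n at hK
  have hpk : n = 2 ^ j + 1 := hn'.symm.trans hn
  have h16 : 2 ^ 4 ≤ 2 ^ j := Nat.pow_le_pow_right (by norm_num) hj
  cases hK with
  | alt n h5 e =>
    obtain ⟨e⟩ := e
    have hT : 2 * Nat.card T = (Nat.card Ω).factorial := by rw [hn', Nat.card_congr e.toEquiv, card_alt h5]
    have h1 := card_dvd_factorial A
    rw [← hT, ← T.index_mul_card] at h1
    exact (Nat.dvd_of_mul_dvd_mul_right Nat.card_pos h1).trans (dvd_mul_right 2 j)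
  | psl F d n hd hd2 e hnn =>
    obtain ⟨e⟩ := e
    obtain ⟨r, hchar⟩ := CharP.exists F
    obtain ⟨⟨f, hf0⟩, hr, hF⟩ := FiniteField.card F r
    simp only [PNat.mk_coe] at hF
    have h2 : d = 2 := psl_arith (p := 2) (k := j) Nat.prime_two hr hf0 hd (by rw [← hF, ← hpk]; exact hnn)
    subst h2
    have h4 := hd2 rfl
    have hnq : n = Fintype.card F + 1 := by
      have h5 : Fintype.card F ^ 2 - 1 = (Fintype.card F + 1) * (Fintype.card F - 1) := by
        have := Nat.sq_sub_sq (Fintype.card F) 1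
        rwa [one_pow] at this
      rw [h5] at hnn
      exact Nat.eq_of_mul_eq_mul_right (by omega) hnn
    obtain ⟨rfl, rfl⟩ := pow_inj' hr Nat.prime_two hf0 (show r ^ f = 2 ^ j by omega)
    have hi := index_dvd_out A e
    rw [card_out_psl2 hr (by omega) hF (by omega)] at hi
    exact hi.trans (Nat.mul_dvd_mul_right (Nat.gcd_dvd_left _ _) _)
  | sp F m n hF hm e hnn =>
    exfalso
    have h1 : 2 ∣ 2 ^ (m - 1) := dvd_pow_self 2 (by omega)
    have h2 : 2 ∣ 2 ^ j := dvd_pow_self 2 (by omega)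
    rcases hnn with h | h
    · have h3 : 2 ∣ n := h ▸ h1.mul_right _
      omega
    · have h3 : 2 ∣ n := h ▸ h1.mul_right _
      omega
  | psu F q n hq hF e hnn =>
    obtain ⟨e⟩ := e
    obtain ⟨p, f, hp, hf, hqf, hi, -⟩ := psu_data A hq hF e
    have h3 : p ^ (3 * f) = 2 ^ j := by rw [mul_comm, pow_mul, ← hqf]; omega
    obtain ⟨rfl, rfl⟩ := pow_inj' hp Nat.prime_two (by omega) h3
    refine hi.trans ((Nat.mul_dvd_mul_right (Nat.gcd_dvd_left _ _) _).trans ?_)
    exact ⟨1, by ring⟩
  | sz F m n hm hF e hnn =>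
    obtain ⟨e⟩ := e
    have h3 : 2 ^ ((2 * m + 1) * 2) = 2 ^ j := by rw [pow_mul, ← hF]; omega
    obtain ⟨-, rfl⟩ := pow_inj' Nat.prime_two Nat.prime_two (by omega) h3
    have hi : T.index ∣ 2 * m + 1 := by
      have := index_dvd_out A e
      rwa [Cfsg.Agent.S2126.result hm hF] at this
    exact hi.trans ⟨4, by ring⟩
  | ree K m n hm hK e hnn =>
    exfalso
    have h3 : 3 ^ ((2 * m + 1) * 3) = 2 ^ j := by rw [pow_mul, ← hK]; omega
    have := (pow_inj' Nat.prime_three Nat.prime_two (by omega) h3).1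
    omega
  | psl2_8 F hF e => exact (two_pow_ne (N := 27) Nat.prime_three (by norm_num) (by norm_num) (j := j) (by omega)).elim
  | psl2_9 F hF e => exfalso; omega
  | psl2_11 F hF e => exfalso; omega
  | psl4_2 F hF e => exfalso; omega
  | a7 e => exfalso; omega
  | m11 h' => exfalso; omega
  | m11' h' => exfalso; omega
  | m12 h' => exfalso; omega
  | m22 h' => exact (two_pow_ne (N := 21) Nat.prime_three (by norm_num) (by norm_num) (j := j) (by omega)).elim
  | m23 h' => exact (two_pow_ne (N := 22) (r := 11) (by norm_num) (by norm_num) (by norm_num) (j := j) (by omega)).elim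
  | m24 h' => exact (two_pow_ne (N := 23) (r := 23) (by norm_num) (by norm_num) (by norm_num) (j := j) (by omega)).elim
  | hs h' => exact (two_pow_ne (N := 175) (r := 5) (by norm_num) (by norm_num) (by norm_num) (j := j) (by omega)).elim
  | co3 h' => exact (two_pow_ne (N := 275) (r := 5) (by norm_num) (by norm_num) (by norm_num) (j := j) (by omega)).elim

end Cfsg.Agent.H437.Tits
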