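import Cfsg.Agent.OrdDiv.Main

/-!
# S3414 [E3]: the orders of the simple groups against `|G|` for `s = 48`
-/

set_option autoImplicit false

namespace Cfsg.Agent.H437.Tits

open Cfsg Cfsg.Agent.OrdDiv

universe u

/-- no candidates -/
def Emp (l : List (ℕ × ℕ)) (N D : ℕ) : Bool := valid l N && ((cands l N).filter (fun g => ordN g % D == 0)).isEmpty

theorem no_simple (T : OrderTable.{u}) {S : Type u} [Group S] (h : IsKnownSimple' S) (hna : ¬ IsMulCommutative S)
    {l : List (ℕ × ℕ)} {N D : ℕ} (hE : Emp l N D = true) (hd : Nat.card S ∣ N) (hD : D ∣ Nat.card S) : False := by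
  unfold Emp at hE
  rw [Bool.and_eq_true] at hE
  obtain ⟨g, hg, -⟩ := exists_real_filter T h (fun h' => hna ⟨⟨h'⟩⟩) hE.1 hd (fun c => c % D == 0)
    (by rw [beq_iff_eq]; exact Nat.mod_eq_zero_of_dvd hD)
  rw [List.isEmpty_iff] at hE
  rw [hE.2] at hg
  exact absurd hg (List.not_mem_nil)

theorem emp1 : Emp [(2, 19), (3, 7), (5, 2), (7, 5), (11, 1)] (49 * 9 * 385 * 384 ^ 2 * (42 * 5040)) (49 * 9 * 385) = true := by
  decide +kernel

theorem emp2 : Emp [(2, 28), (3, 9), (5, 3), (7, 5), (11, 1), (13, 1), (17, 1), (769, 1)]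
    (49 * 17 * 769 * 768 ^ 2 * (42 * 1307674368000)) (49 * 17 * 769) = true := by
  decide +kernel

theorem emp3 : Emp [(2, 78), (3, 33), (5, 15), (7, 14), (11, 5), (13, 5), (17, 3), (19, 3), (23, 2), (29, 2), (31, 2), (37, 1), (41, 1),
    (43, 1), (47, 1), (53, 1), (59, 1), (61, 1), (439, 1)]
    (49 * 65 * 3073 * 3072 ^ 2 * (42 * 1982608315404440064116146708361898137544773690227268628106279599612729753600000000000000))
    (49 * 65 * 3073) = true := by
  decide +kernel

theorem emp4 : Emp [(2, 18), (3, 6), (5, 1), (7, 6), (461, 1)] (49 * 49 * 2305 * 2304 ^ 2 * (42 * 42)) (49 * 49 * 2305) = true := by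
  decide +kernel

theorem emp5 : Emp [(2, 22), (3, 6), (5, 3), (7, 4), (29, 1), (31, 3), (227, 1)]
    (49 * 961 * 46081 * 46080 ^ 2 * (42 * 930)) (49 * 961 * 46081) = true := by
  decide +kernel

theorem emp6 : Emp [(2, 26), (3, 8), (7, 6), (13, 1), (37, 1), (61, 1), (181, 1)]
    (49 * 49 * 5310721 * 2304 ^ 3 * (42 * 42)) (49 * 49 * 5310721) = true := by
  decide +kernel

end Cfsg.Agent.H437.Tits
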